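import Cfsg.Agent.H7.Mult3
import Cfsg.Agent.H7.Mu.M11

set_option autoImplicit false
set_option maxRecDepth 100000

universe u

namespace CfsgH7.M12T

noncomputable def e0 : Tr := (Tr.node (Tr.leaf (nat_lit 0x91123e030d208a54be07c0f81f03e07c0f80e17e07c0f81f03e02cb711f03e0044f81f03e030b78ef2d78a4565a113e07c0f81f03e0044f8091fe07c0f81f03e07c078713e490433e2219e5fc006c0d60904250830fe003406610a27812191f001898206040c2100ff800b82082d05802c157c01840a4a280820e107e010328a01c0304100bf002000418220401802f8000420080080200207c0)) (Tr.leaf (nat_lit 0x47f81f03e07c0f80e2fe0047f81f00da7c088c11be07c0f81f00fac12f81f03e07c0f81f0243c4699023de390f08df0022fc0310a2fe07c0689f03e07c008bf03e020b)))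

noncomputable def j0 : Tr := (Tr.node (Tr.leaf (nat_lit 0xc0840b00d0040200018c00000000000000002c097600000000000000052b5960000000020000000000a955070074020320040200014a000000000000040000913f000000000000000000e11e03e0800200d01e0bc001080000000200d058038000c60000000200d000020000bb0000280000b004000000a50000280000000000000084012000020000040200006300c030000000040000005800c00002007000000000420000140200300400400000)) (Tr.leaf (nat_lit 0xc000000000000000da5d0000280000003400318a5200c000000000000200f210000000000000000035520506c0280b818032020001e400c00008013000001f51c30000000000d000000089ad)))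

noncomputable def R : RTr := (RTr.node (RTr.node (RTr.node (RTr.node (RTr.node (RTr.node (RTr.leaf ⟨true,11,[],[],0,0,false⟩) (RTr.leaf ⟨false,55,[22,66,44,66,44,22,44],[],6,5,true⟩)) (RTr.leaf ⟨false,0,[11,55,33,66,22,66,22,33,33,66,44],[],7,6,true⟩)) (RTr.node (RTr.leaf ⟨false,66,[22,33,33,66,44,11,55,33,66,22],[],7,0,true⟩) (RTr.leaf ⟨false,22,[22,22,22,44,11,33,22],[],5,6,true⟩))) (RTr.node (RTr.node (RTr.leaf ⟨true,55,[],[],2,0,false⟩) (RTr.leaf ⟨false,0,[11,44,11,11,33],[],4,4,false⟩)) (RTr.node (RTr.leaf ⟨false,33,[44],[],1,0,false⟩) (RTr.leaf ⟨false,55,[22,33,66,44,44,11,66,11,66,44],[],7,6,false⟩)))) (RTr.node (RTr.node (RTr.node (RTr.leaf ⟨true,33,[],[],1,0,false⟩) (RTr.leaf ⟨false,33,[33,33,33,33],[],8,0,false⟩)) (RTr.node (RTr.leaf ⟨false,33,[11,44,11,11],[],4,4,false⟩) (RTr.leaf ⟨false,0,[44,22,44,55,22,66,44,66],[],6,1,true⟩))) (RTr.node (RTr.node (RTr.leaf ⟨false,33,[66,11,55,33,11,33,66],[],6,5,false⟩) (RTr.leaf ⟨false,44,[22,22,33,22],[],4,0,true⟩)) (RTr.node (RTr.leaf ⟨false,22,[44,22,22,33],[],4,1,true⟩)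 (RTr.leaf ⟨false,66,[44,44,11,66,11,66,44,55,22,33],[],7,3,false⟩))))) (RTr.node (RTr.node (RTr.node (RTr.node (RTr.leaf ⟨false,22,[11],[],0,1,false⟩) (RTr.leaf ⟨false,0,[33,11,44,11,11],[],4,0,false⟩)) (RTr.node (RTr.leaf ⟨false,55,[55],[],2,0,false⟩) (RTr.leaf ⟨false,22,[66,44,66,44,22,44,55],[],6,4,true⟩))) (RTr.node (RTr.node (RTr.leaf ⟨false,66,[66],[],3,0,false⟩) (RTr.leaf ⟨false,44,[11,11,33,11],[],4,2,false⟩)) (RTr.node (RTr.leaf ⟨false,11,[11,33,11,44],[],4,1,false⟩) (RTr.leaf ⟨false,0,[33,66,44,44,11,66,11,66,44,55,22],[],7,5,false⟩)))) (RTr.node (RTr.node (RTr.node (RTr.leaf ⟨false,44,[33],[],1,1,false⟩) (RTr.leaf ⟨false,11,[33,22,22,22,22,22,44],[],5,1,true⟩)) (RTr.node (RTr.leaf ⟨false,55,[33,11,33,66,33,66,11],[],6,2,false⟩) (RTr.leaf ⟨false,0,[22,66,44,66,44,22,44,55],[],6,5,true⟩))) (RTr.node (RTr.node (RTr.leaf ⟨false,11,[22],[],0,0,false⟩) (RTr.leaf ⟨false,33,[22,44,22,22],[],4,2,true⟩)) (RTr.node (RTr.leaf ⟨false,44,[22,44,55,22,66,44,66],[],6,0,true⟩) (RTr.leaf ⟨false,55,[33,66,22,66,22,33,33,66,44,11],[],7,4,true⟩))))))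

noncomputable def D : TCD where
  N := nat_lit 23
  E := e0
  lb := nat_lit 4
  lm := nat_lit 15
  rw := nat_lit 77
  em := nat_lit 2047
  vm := nat_lit 63
  fl := nat_lit 32
  wv := nat_lit 6
  inf := nat_lit 1984
  J := j0
  jw := nat_lit 11
  jm := nat_lit 2047
  jr := nat_lit 88
  pk := nat_lit 77
  nr := nat_lit 33
  R := R
  cols := [(nat_lit 11,nat_lit 22),(nat_lit 22,nat_lit 33),(nat_lit 33,nat_lit 44),(nat_lit 44,nat_lit 55),(nat_lit 55,nat_lit 66),(nat_lit 66,nat_lit 77)]
  j0 := nat_lit 11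
  big := nat_lit 1000000000

def cl : List (Nat × Nat) := [(11,0),(22,1),(33,2),(44,3),(55,4),(66,6)]
def invs : List Nat := [2,3]
def rels : List (List Nat) := [[0,1],[2,3],[4,5],[6,7],[0,0,3,0,2],[0,0,0,0,0,2,1,3],[0,2,4,0,6,2,6,2],[0,3,3,6,2,1,4,3,6,0,6],[2,2,2,2,2]]
def subs : List (List Nat) := [[0],[2],[4]]
def W0 : List (List Nat) := [[0],[2],[4],[6]]

theorem c0 : Nat.beq (nsum2 D.val 0 1 64) 12 = true := by decide +kernel

theorem pre : tcPre D cl invs rels subs W0 64 12 = true := by decide +kernel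

theorem u0 : Upto D.val 0 0 := Upto.zero _
theorem u1 : Upto D.val 64 12 := u0.step c0 (by decide) (by decide)

theorem relIndex {G : Type*} [Group G] (g : Nat → G) (K : Subgroup G) (hinv : ∀ k ∈ invs, g k * g k = 1)
    (hrel : ∀ r ∈ rels, wprod g r = 1) (hsub : ∀ h ∈ subs, wprod g h ∈ K) :
    K.relIndex (genW g W0) ≠ 0 ∧ K.relIndex (genW g W0) ≤ 12 :=
  tc_relIndex g K D cl invs rels subs W0 _ _ hinv hrel hsub pre u1

end CfsgH7.M12T

namespace CfsgH7.M12P12

noncomputable def e0 : Tr := (Tr.node (Tr.node (Tr.node (Tr.node (Tr.leaf (nat_lit 0x20040f800106088100600be008100220020080080200207c0)) (Tr.leaf (nat_lit 0x3e07c0f81f03e040721c11be004508bf03e020845ff03e0384))) (Tr.leaf (nat_lit 0x3e07c0f81f03e07c0089f0143fc0f81f03e07c03e021a057c0))) (Tr.node (Tr.leaf (nat_lit 0x3e0030f806081790308403be00ad05a107e002c05602814fc0)) (Tr.leaf (nat_lit 0x3e0044f81f03e07c0f81f01e2fc0f81f03e07c0f81f01853c8)))) (Tr.node (Tr.node (Tr.node (Tr.leaf (nat_lit 0x61142f81f03e000820e107e0103f80517e000700c10402fc0))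 (Tr.leaf (nat_lit 0x23847f81f03e07c0f81f01e57c0f81f00237c0f81f03e0487))) (Tr.leaf (nat_lit 0x3e07c0f81f00227c0f81f01a5407f81f03e02b050adb0227c0))) (Tr.node (Tr.leaf (nat_lit 0x59833f81f022884258830fe07c0f802c819042f80044647c0)) (Tr.leaf (nat_lit 0x3e07c0f81f0138045f81f01257c0f81f03e0446f80117e07c0)))))

noncomputable def j0 : Tr := (Tr.node (Tr.node (Tr.node (Tr.node (Tr.leaf (nat_lit 0x160300000000803400000000134058000120200200300400400000)) (Tr.leaf (nat_lit 0x801080e0009a00580c0000000201b00000248a3c))) (Tr.leaf (nat_lit 0x100000a65c000000000000001a0300c00014a))) (Tr.node (Tr.leaf (nat_lit 0x1500004c0100000034405800012000000000000000009a)) (Tr.leaf (nat_lit 0x300000000000000000d42764000000000000000000007b401b8)))) (Tr.node (Tr.node (Tr.node (Tr.leaf (nat_lit 0x1e040000000000000100e0001e408800028000000000040000006e)) (Tr.leaf (nat_lit 0x16030000000000000000003ac08000000000480000000000011289))) (Tr.leaf (nat_lit 0x8000000000326b41b80000000019833004038001a2))) (Tr.node (Tr.leaf (nat_lit 0x1600000000008058168170003c80000001200002000000038000e7))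 (Tr.leaf (nat_lit 0x80580000003886c000000000000f800004000001fa)))))

noncomputable def t0 : Tr := (Tr.node (Tr.node (Tr.node (Tr.node (Tr.leaf (nat_lit 0x580000000000000000000000000000000000000000000000000000000000160280500000000400000016000008020040000000b00000000800000000000000000000000000000000000000000000000000000000000000000000000000000000000000000000000000000000000008000000000000000000000000000000008000000000000000000000000016000000000000000000000000000001000000000000000000000000002c00000000000000000000000000000200000000000000000000000000580000000000000000000000000000000000000000000000)) (Tr.leaf (nat_lit 0x500801002c0000200202c050000020080100000002c0080000200000000000000000000000000000000000000000000000000000000000000000000000000000000000000000000000000000000000016000000000000000000000000000000000000000000000000000000000003804012000008040000240300000c0080380b0020140000a00a00000000000000000000000000000000000000000000000000000000000580201602c0180b00201804000))) (Tr.leaf (nat_lit 0xc0280300001401c000020100000000000000000000000000000000000000000000000000000000000000000000000000000000000000000000000000000000000000000000000000000000000000000000000a020018000160200000300c0000000000000000000000004000000060200000b00402001007002000000000000000000000000000000)))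 (Tr.node (Tr.leaf (nat_lit 0x48060140000000200002c050000000000000000000000000000000008020040000000b00002c00800000000000000000000000000000000000000000000000000000000000000000000000000000000000000000000000000000000000008000000000000000000000000000000000000000000000000000000000000000000000000000000000000000000000000000000000000000000000000000000000000000000000000000000000000000000000000000000000000000000000000000000000000000000000000000000)) (Tr.leaf (nat_lit 0x58000000000000000000000000000000000000000000000000000000000000000000000000000000000000000000000000000000000000000000000000000000000000000000000000000000000000000000000000020280080101200405806006000000000000000000000000000000000000000000000000000000000000000000000000000000000000000000000000000000000000000000000000000000000000000000000000000000000000000000000000000000000000000000000000000016028050000000040080a016000040020140040500501600c05000)))) (Tr.node (Tr.node (Tr.node (Tr.leaf (nat_lit 0x120200480000200800000012000048080120000080200000004000000000000000000000000000000000000000000000000000000000000000000000000000000000000000000000000000000000000000000020080100000002c000010020000000000000000000000000000000000000000000000000000000000018040060000580a000000020000000000000000000000000000000018060040000000a00000401000000000000000000000000000000000000000000000000000000000000000000000000000000000000000000000000000000000000000000000000000000000000000000000000000000000000000000000000))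 (Tr.leaf (nat_lit 0x580000000000000000000000000000000000000000000000000000000000000000000000000000000000000000000000000000000000000000000000000000000000000000000000000000000000000000000000000a02003800016024050020080000000000000000000000000000000000000000000000000000000000000000000000000000000000000000000000000000000000000002c000000000000000000000000000000000000000000000000000000000000000000000000000000000000000000000000000000000000000500600c024050050020280500b))) (Tr.leaf (nat_lit 0x20080100000002c058010020000380400a00000803004028040000000000000000000000000000000000000000000000000000000000000000000000000000000000000000008016004048020000140180000c0280300001401c00003010000008020040000000b016008008000000000000000000000000000000000000000000000000000000000))) (Tr.node (Tr.leaf (nat_lit 0x20000000000000000000000000000000000000000000000000000000000000000000000000000000000000004010020010000280580100400000000000000000000000000000000c008030000040140000a0080000580a0140000000100002c058000000000000000000000000000000000000000000000000000000000000000000000000000000000000000000000000000000000000000100000000000000000000000000000000000000000000000000000000000000000000000000000000000000000000000000000000000000000000000000000000000b000000000000000000000000000000000))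 (Tr.leaf (nat_lit 0xc0280280101601c0000200e000000000000000000000000000000000000000000000000000000000000000000000000000000000000000c0080300000401400009008000000000000000000000000000000000000000000000000000000000000000000000000000000000000000000000000000000000000000000180600c004000090140080180000000000000000000000000000000000000000000000000000000000000000000000000000000000000000000000000000000000000000)))))

noncomputable def RT : RTt := (RTt.node (RTt.node (RTt.node (RTt.node (RTt.node (RTt.node (RTt.leaf ⟨true,11,[],[],(nat_lit 0x20000000000000000000),0,0,false⟩) (RTt.leaf ⟨false,22,[22,22,22,44,11,33,22],[],(nat_lit 0x1600000000),3,6,true⟩)) (RTt.leaf ⟨false,88,[88],[],(nat_lit 0x5800),1,0,true⟩)) (RTt.node (RTt.leaf ⟨false,66,[55],[],(nat_lit 0x0),7,5,false⟩) (RTt.leaf ⟨false,0,[11,44,11,11,33],[],(nat_lit 0x400000),2,4,false⟩))) (RTt.node (RTt.node (RTt.leaf ⟨false,0,[33,11,44,11,11],[],(nat_lit 0x400000),2,0,false⟩) (RTt.leaf ⟨false,55,[66],[],(nat_lit 0x0),7,4,false⟩)) (RTt.node (RTt.leaf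 ⟨false,33,[77,11,55,33,11,33,77],[],(nat_lit 0x100000000000),4,5,false⟩) (RTt.leaf ⟨false,0,[44,22,44,66,22,88,44,88],[],(nat_lit 0xb00000000000),4,1,true⟩)))) (RTt.node (RTt.node (RTt.node (RTt.node (RTt.leaf ⟨true,33,[],[],(nat_lit 0x10000000000000000000000),1,0,false⟩) (RTt.leaf ⟨false,0,[88,44,11,66,33,88,22,88,22,33,33],[],(nat_lit 0x580000000000000),5,8,true⟩)) (RTt.leaf ⟨false,33,[11,44,11,11],[],(nat_lit 0x400000),2,4,false⟩)) (RTt.node (RTt.leaf ⟨false,88,[77],[],(nat_lit 0x0),7,7,false⟩) (RTt.leaf ⟨false,33,[33,33,33,33],[],(nat_lit 0x40000000000000000),6,3,false⟩))) (RTt.node (RTt.node (RTt.leaf ⟨false,0,[33,11,11,11,11,11,44,22],[],(nat_lit 0x200000000),3,6,false⟩) (RTt.leaf ⟨false,11,[11,33,11,44],[],(nat_lit 0x400000),2,1,false⟩)) (RTt.node (RTt.leaf ⟨false,88,[22,33,33,88,44,11,66,33,88,22],[],(nat_lit 0x580000000000000),5,0,true⟩) (RTt.leaf ⟨false,44,[11,11,33,11],[],(nat_lit 0x400000),2,2,false⟩))))) (RTt.node (RTt.node (RTt.node (RTt.node (RTt.node (RTt.leaf ⟨false,22,[11],[],(nat_lit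 0x0),7,1,false⟩) (RTt.leaf ⟨false,0,[22,88,44,88,44,22,44,66],[],(nat_lit 0xb00000000000),4,5,true⟩)) (RTt.leaf ⟨false,55,[55],[],(nat_lit 0x1),0,0,false⟩)) (RTt.node (RTt.leaf ⟨false,0,[55,55],[],(nat_lit 0x1),0,0,false⟩) (RTt.leaf ⟨false,33,[77,33,77,11,55,33,11],[],(nat_lit 0x100000000000),4,7,false⟩))) (RTt.node (RTt.node (RTt.leaf ⟨false,0,[33,33,33,33,33],[],(nat_lit 0x40000000000000000),6,0,false⟩) (RTt.leaf ⟨false,33,[44],[],(nat_lit 0x0),7,2,false⟩)) (RTt.node (RTt.leaf ⟨false,11,[22],[],(nat_lit 0x0),7,0,false⟩) (RTt.leaf ⟨false,11,[33,22,22,22,22,22,44],[],(nat_lit 0x1600000000),3,1,true⟩)))) (RTt.node (RTt.node (RTt.node (RTt.leaf ⟨false,44,[33],[],(nat_lit 0x0),7,3,false⟩) (RTt.leaf ⟨false,66,[33,88,22,88,22,33,33,88,44,11],[],(nat_lit 0x580000000000000),5,4,true⟩)) (RTt.node (RTt.leaf ⟨false,77,[77],[],(nat_lit 0x800),1,0,false⟩) (RTt.leaf ⟨false,0,[11,66,33,88,22,88,22,33,33,88,44],[],(nat_lit 0x580000000000000),5,6,true⟩))) (RTt.node (RTt.node (RTt.leaf ⟨true,55,[],[],(nat_lit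 0x8000000000000000000000000),2,0,false⟩) (RTt.leaf ⟨false,22,[44,22,22,33],[],(nat_lit 0x2c00000),2,1,true⟩)) (RTt.node (RTt.leaf ⟨false,77,[88],[],(nat_lit 0x0),7,6,false⟩) (RTt.leaf ⟨false,33,[22,44,22,22],[],(nat_lit 0x2c00000),2,2,true⟩))))))

noncomputable def D : TCD where
  N := nat_lit 20
  E := e0
  lb := nat_lit 1
  lm := nat_lit 1
  rw := nat_lit 99
  em := nat_lit 2047
  vm := nat_lit 63
  fl := nat_lit 32
  wv := nat_lit 6
  inf := nat_lit 1984
  J := j0
  jw := nat_lit 11
  jm := nat_lit 2047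
  jr := nat_lit 110
  pk := nat_lit 99
  nr := nat_lit 35
  R := RTr.leaf ⟨false,0,[],[],0,0,false⟩
  cols := [(nat_lit 11,nat_lit 22),(nat_lit 22,nat_lit 33),(nat_lit 33,nat_lit 44),(nat_lit 44,nat_lit 55),(nat_lit 55,nat_lit 66),(nat_lit 66,nat_lit 77),(nat_lit 77,nat_lit 88),(nat_lit 88,nat_lit 99)]
  j0 := nat_lit 11
  big := nat_lit 0

noncomputable def X : TTD where
  D := D
  p := ⟨nat_lit 11, nat_lit 10, nat_lit 12, nat_lit 0x780f01e03c0780f01e03c0780f, nat_lit 15, nat_lit 0xff9ff3fe7fcff9ff3fe7fcff9ff, nat_lit 511, nat_lit 0x3f87f0fe1fc3f87f0fe1fc3f87f, nat_lit 127, nat_lit 0xc618c318630c618c318630c618c, nat_lit 390⟩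
  T := t0
  tq := nat_lit 10
  fu := nat_lit 1
  lmax := nat_lit 11
  R := RT

def cl : List (Nat × Nat) := [(11,0),(22,1),(33,2),(44,3),(55,4),(66,5),(77,6),(88,7)]
def R : List (List Nat) := [[4,4],[6,6],[0,0,3,0,2],[0,0,0,0,0,2,1,3],[0,2,4,0,6,2,6,2],[0,3,3,6,2,1,4,3,6,0,6],[2,2,2,2,2]]
def S : List (List Nat) := [[0],[2],[4]]
def cs : List (List Nat) := [[4,7],[13,13,13,13,13],[2,2,12,8,11,11],[4,13,7,8,11]]
theorem c0 : Nat.beq (nsum2 X.val 0 2 16) 0 = true := by decide +kernel

noncomputable def qs : List ((Nat × Nat) × Nat × Nat) := [((0,192),4,(nat_lit 0x120000000000000400000)),((0,128),5,(nat_lit 0x70000040000000000000000)),((0,192),6,(nat_lit 0x100000000000200000000)),((0,128),9,(nat_lit 0x50000000000000000000000001)),((1,192),5,(nat_lit 0x280a0140040000700000002800)),((10,1216),34,(nat_lit 0x300800e0280400a01400c04000))]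
noncomputable def cn : List (List Nat × Nat) := [([4,7],(nat_lit 0x202c00000)),([13,13,13,13,13],(nat_lit 0x140000000000000000)),([2,2,12,8,11,11],(nat_lit 0x2c0100b00000005000)),([4,13,7,8,11],(nat_lit 0x40080b00202c00000))]
def rs : List (List (Nat × Nat) × Nat) := [([(3,1)],1),([(8,2),(4,1)],1),([(0,1)],1),([(2,1)],1),([(6,1),(9,11)],1),([(6,9),(8,11),(9,3),(4,2)],1),([(1,1)],1),([(6,1),(0,1),(2,11)],1),([(7,1),(1,7)],1),([(8,2),(0,9),(2,2),(4,4),(5,1)],2)]
theorem u0 : Upto X.val 0 0 := Upto.zero _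
theorem u1 : Upto X.val 32 0 := u0.step c0 (by decide) (by decide)

theorem p1 : P1 R S cs 12 2 :=
  tt_P1 X cl R S 32 qs cn rs (by decide +kernel) u1 (by decide +kernel) (by decide +kernel)

end CfsgH7.M12P12

namespace CfsgH7.M12

def R : List (List Nat) := [[4,4],[6,6],[0,0,3,0,2],[0,0,0,0,0,2,1,3],[0,2,4,0,6,2,6,2],[0,3,3,6,2,1,4,3,6,0,6],[2,2,2,2,2]]
def S : List (List Nat) := [[0],[2],[4]]
theorem p2 : P2.{u} 4 R S 12 := fun _ _ g K hs hS =>
  have hf := hs.follows (invs := M12T.invs) (rels := M12T.rels) (by decide +kernel)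
  M12T.relIndex g K hf.1 hf.2 hS
noncomputable def Rf : List (List Nat) := R ++ (M11.Rf).map (substW S)
theorem pr : Pr.{u} 4 Rf 95040 := Pr.step (S := S) p2 M11.pr
theorem nr12 : nrmOk 4 R M12P12.cs 12 = true := by decide +kernel
theorem lv12 : Lv.{u} 4 Rf 95040 12 2 := Lv.step (S := S) (a := 2) M12P12.p1 p2 nr12 M11.pr (Lv.dvd (a := 1) (b := 1) M11.lv72 (by norm_num) (by norm_num))
theorem perf {G : Type*} [Group G] {g : Nat → G} (h : Sat g Rf) :
    ⁅genW g (gensW 4), genW g (gensW 4)⁆ = genW g (gensW 4) :=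
  perfect_of_nrm (R := R) (cs := [[4,7],[0,2,2,12,6,9,9],[0,0,2,2,2,2,2,2,12,6,6,9,9,9,11,11],[4,13,7,8,11]]) (fun r hr => h r (List.mem_append_left _ hr)) (by decide +kernel)

end CfsgH7.M12

namespace CfsgH7.M12

noncomputable def n0 : Net := (Net.cons (nat_lit 6) (nat_lit 0x32) (Net.cons (nat_lit 3) (nat_lit 0x84) (Net.cons (nat_lit 1) (nat_lit 0x48) (Net.cons (nat_lit 1) (nat_lit 0x92) (Net.cons (nat_lit 1) (nat_lit 0x8) (Net.cons (nat_lit 3) (nat_lit 0x104) (Net.cons (nat_lit 6) (nat_lit 0x2c) Net.nil)))))))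

noncomputable def n1 : Net := (Net.cons (nat_lit 6) (nat_lit 0x1e) (Net.cons (nat_lit 3) (nat_lit 0x1c4) (Net.cons (nat_lit 1) (nat_lit 0x40) (Net.cons (nat_lit 1) (nat_lit 0x90) (Net.cons (nat_lit 1) (nat_lit 0x200) (Net.cons (nat_lit 3) (nat_lit 0x104) (Net.cons (nat_lit 6) (nat_lit 0x28) Net.nil)))))))

noncomputable def n2 : Net := (Net.cons (nat_lit 3) (nat_lit 0x86) (Net.cons (nat_lit 1) (nat_lit 0x80) (Net.cons (nat_lit 1) (nat_lit 0x200) (Net.cons (nat_lit 3) (nat_lit 0x80) Net.nil))))

noncomputable def n3 : Net := (Net.cons (nat_lit 6) (nat_lit 0x3b) (Net.cons (nat_lit 3) (nat_lit 0x147) (Net.cons (nat_lit 1) (nat_lit 0x40) (Net.cons (nat_lit 1) (nat_lit 0x90) (Net.cons (nat_lit 1) (nat_lit 0x8) (Net.cons (nat_lit 3) (nat_lit 0x2) (Net.cons (nat_lit 6) (nat_lit 0x4) Net.nil)))))))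

noncomputable def l : List Net := [n0, n1, n2, n3]

theorem R0 : Rep (finPt 12) 12 (finGen 12 l) l := finRep 12 l (by decide +kernel) (by decide +kernel)

theorem tr0 : trivJ l 12 4 Rf 0 = true := by decide +kernel
theorem tr1 : trivJ l 12 4 Rf 1 = true := by decide +kernel
theorem tr2 : trivJ l 12 4 Rf 2 = true := by decide +kernel
theorem tr3 : trivJ l 12 4 Rf 3 = true := by decide +kernel
theorem sat0 : Sat (finGen 12 l) Rf := finRep_sat R0 (m := 4) (by norm_num) (by
    intro j hj
    interval_cases j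
    · exact tr0
    · exact tr1
    · exact tr2
    · exact tr3)

abbrev G0 : Type := PG 12 l
noncomputable abbrev g0 : Nat → G0 := pgen 12 l
def bs : List Nat := [4,3,0,2,1]
theorem M0 : Md (finPt 12) 12 g0 l 4 95040 bs :=
  Md.fin' R0 pr sat0 [⟨1, [[0],[6]], [0,1,0,0,1,0,1], 12⟩,
  ⟨2, [[0,0,4],[0,3,6]], [0,0,1,0,1,0], 11⟩,
  ⟨0, [[6,4,6],[0,4,6,0],[2,2,6,2]], [0,1,2,0,1], 10⟩,
  ⟨3, [[0,4,1,3],[1,6,2,2,6]], [0,1,1,1,0], 9⟩,
  ⟨4, [[1,6,2,6,0,4],[0,0,0,0,4,3,1],[0,4,3,0,0,4,3]], [0,1,2], 8⟩] 4 bs (by decide +kernel)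
theorem sb0 : lall (fun w => fixesP l w bs) Rf = true := by decide +kernel
theorem mdl0 : Mdl G0 4 Rf 95040 := M0.mdl sb0
theorem iso {G : Type u} [Group G] (h : Mdl G 4 Rf 95040) : Nonempty (G0 ≃* G) := Mdl.iso pr mdl0 h

end CfsgH7.M12

namespace CfsgH7.M12

theorem sbp12 : SBp G0 12 2 := lv12.sbp (M0.sat sb0) M0.gen M0.card

end CfsgH7.M12

namespace CfsgH7.M12

theorem sb : SB G0 2 :=
  SB.of M0.card [2,3,5,11] (by norm_num) [(6, 12, 2)] (by
    intro x hx
    simp only [List.mem_cons, List.not_mem_nil, or_false] at hx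
    rcases hx with rfl
    · exact sbp12)
    (by decide +kernel)

end CfsgH7.M12

namespace CfsgH7.M12

noncomputable def cvn0 : Net := (Net.cons (nat_lit 6) (nat_lit 0x38038) (Net.cons (nat_lit 3) (nat_lit 0x2002) (Net.cons (nat_lit 1) (nat_lit 0x48048) (Net.cons (nat_lit 1) (nat_lit 0x92092) (Net.cons (nat_lit 1) (nat_lit 0x240240) (Net.cons (nat_lit 3) (nat_lit 0x184184) (Net.cons (nat_lit 6) (nat_lit 0x14014) Net.nil)))))))

noncomputable def cvn1 : Net := (Net.cons (nat_lit 6) (nat_lit 0x24024) (Net.cons (nat_lit 3) (nat_lit 0x86086) (Net.cons (nat_lit 1) (nat_lit 0x48048) (Net.cons (nat_lit 1) (nat_lit 0x492492) (Net.cons (nat_lit 1) (nat_lit 0x208208) (Net.cons (nat_lit 3) (nat_lit 0x2002) (Net.cons (nat_lit 6) (nat_lit 0x14014) Net.nil)))))))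

noncomputable def cvn2 : Net := (Net.cons (nat_lit 12) (nat_lit 0x62d) (Net.cons (nat_lit 3) (nat_lit 0x106106) (Net.cons (nat_lit 1) (nat_lit 0x40040) Net.nil)))

noncomputable def cvn3 : Net := (Net.cons (nat_lit 12) (nat_lit 0xb15) (Net.cons (nat_lit 3) (nat_lit 0x1c51c5) (Net.cons (nat_lit 1) (nat_lit 0x201201) (Net.cons (nat_lit 1) (nat_lit 0x492492) (Net.cons (nat_lit 1) (nat_lit 0x48048) (Net.cons (nat_lit 3) (nat_lit 0x2002) Net.nil))))))

noncomputable def cvn4 : Net := (Net.cons (nat_lit 12) (nat_lit 0xfff) Net.nil)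

noncomputable def cvl : List Net := [cvn0, cvn1, cvn2, cvn3, cvn4]

theorem cvR : Rep (finPt 24) 24 (finGen 24 cvl) cvl := finRep 24 _ (by decide +kernel) (by decide +kernel)

noncomputable def cvC : List (List Nat) := (covR 4 Rf 2 [0,1,0,0,0,0,0,0,0,1,1,0,0,0,0] [4,4,4,4,6,6,6,6,0,0,3,0,3,3,3,3,0,2,4,0,6,2,6,2,5,2,5,1,3,5,3,3,1,1,7,1,7,2,5,0,3,7,2,2,1,7,1,7,2,5,0,3,7,2,2,1]).map (substW (gensW 5))
theorem cvt0 : trivJ cvl 24 5 cvC 0 = true := by decide +kernel
theorem cvt1 : trivJ cvl 24 5 cvC 1 = true := by decide +kernel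
theorem cvt2 : trivJ cvl 24 5 cvC 2 = true := by decide +kernel
theorem cvt3 : trivJ cvl 24 5 cvC 3 = true := by decide +kernel
theorem cvt4 : trivJ cvl 24 5 cvC 4 = true := by decide +kernel
theorem cv : Cov G0 (Multiplicative (ZMod 2)) :=
  M0.cov pr sb0 cvR (finPt_inj _) (gensW 5) 2 _ _ 0 (finRep_sat (Rl := cvC) cvR (m := 5) (by norm_num) (by
    intro j hj
    interval_cases j
    · exact cvt0
    · exact cvt1
    · exact cvt2
    · exact cvt3
    · exact cvt4))
    (by decide +kernel) (by decide +kernel) (by decide +kernel)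

end CfsgH7.M12

namespace CfsgH7.M12

theorem perf0 : commutator G0 = ⊤ := M0.perf (perf (M0.sat sb0))
theorem schur0 : Cfsg.HasCyclicSchurMultiplier G0 2 :=
  schur_of perf0 (cv) (by simp [Nat.card_zmod]) sb
theorem schur {G : Type u} [Group G] (h : Mdl G 4 Rf 95040) : Cfsg.HasCyclicSchurMultiplier G 2 :=
  (iso h).elim (schur_congr schur0)

end CfsgH7.M12

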