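import Cfsg.Agent.H7.Gol.Tr2
import Cfsg.Agent.H7.Mu.M12
import Cfsg.Agent.H7.Mu.M24
import Cfsg.Agent.H7.Mu.M22c
import Cfsg.Prelude.Def_Spor_Mathieu

/-! The Mathieu groups of the definitions satisfy the presentations. -/

set_option autoImplicit false
set_option maxRecDepth 100000

namespace CfsgH7.Gol

open Cfsg MulAction

theorem b7 : ∀ b ∈ [4,5,3,2,1,0,23], b < 24 := by decide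

theorem map23 : K23.map M24.subtype = Spor.M23 := by
  ext x
  exact ⟨by rintro ⟨y, h, rfl⟩; exact ⟨y.2, h⟩, fun h => ⟨⟨x, h.1⟩, h.2, rfl⟩⟩

theorem map22 : K22.map M24.subtype = Spor.M22 := by
  ext x
  exact ⟨by rintro ⟨y, h, rfl⟩; exact ⟨⟨y.2, h.1⟩, h.2⟩, fun h => ⟨⟨x, h.1.1⟩, ⟨h.1.2, h.2⟩, rfl⟩⟩

theorem map12 : K12.map M24.subtype = Spor.M12 := by
  unfold Spor.M12
  rw [sqD]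
  ext x
  exact ⟨by rintro ⟨y, h, rfl⟩; exact ⟨y.2, h⟩, fun h => ⟨⟨x, h.1⟩, h.2, rfl⟩⟩

theorem map11 : K11.map M24.subtype = Spor.M11 := by
  unfold Spor.M11 Spor.M12
  rw [sqD]
  ext x
  exact ⟨by rintro ⟨y, h, rfl⟩; exact ⟨⟨y.2, h.1⟩, h.2⟩, fun h => ⟨⟨x, h.1.1⟩, ⟨h.1.2, h.2⟩, rfl⟩⟩

noncomputable def eqK {K : Subgroup M24} {L : Subgroup (Equiv.Perm GolayPt)} (h : K.map M24.subtype = L) : K ≃* L :=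
  (K.equivMapOfInjective _ M24.subtype_injective).trans (MulEquiv.subgroupCongr h)

def U11 : List (List Nat) := [[0,5,1,1,5,5,0,0,2,0,5,0,0,2,0,4,0],[5,1,2,0,0,2,4,1,1,2,5,5,0,0],[0,4,0,4,1,5,0,0,4,4,1,5,5,0]]
theorem genU11 : genW gm U11 = K11 :=
  RP.gen_of I.inj (mem_inf' (I.mem_stab RP (by decide +kernel)) (RP.mem_stab (by decide +kernel))) card11 [⟨1, [[0]], [0,0,0,0,0,0,0,0,0,0], 11⟩,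
  ⟨2, [[0,0,4],[1,1,2]], [0,1,0,1,0], 10⟩,
  ⟨4, [[0,4,1,3],[3,3,4,2,2]], [0,1,0,1], 9⟩,
  ⟨3, [[4,2,4,3,4],[1,2,0,4,1,2],[1,3,4,1,1,1,4]], [0,1,2], 8⟩] 5 (by decide +kernel)
theorem mdl11 : Mdl Spor.M11 3 CfsgH7.M11.Rf 7920 :=
  (Mdl.sub genU11 card11 (base7.satP RP b7 (by decide +kernel))).congr (eqK map11)

def U12 : List (List Nat) := [[0,5,1,1,5,5,0,0,2,0,5,0,0,2,0,4,0],[5,1,2,0,0,2,4,1,1,2,5,5,0,0],[0,4,0,4,1,5,0,0,4,4,1,5,5,0],[1,4,2,0,4,0,2,0,0,2,5,1,2,5,0]]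
theorem genU12 : genW gm U12 = K12 :=
  RP.gen_of I.inj (I.mem_stab RP (by decide +kernel)) card12 [⟨1, [[0],[6]], [0,1,0,0,1,0,1], 12⟩,
  ⟨2, [[0,0,4],[0,3,6]], [0,0,1,0,1,0], 11⟩,
  ⟨0, [[6,4,6],[0,4,6,0],[2,2,6,2]], [0,1,2,0,1], 10⟩,
  ⟨3, [[0,4,1,3],[1,6,2,2,6]], [0,1,1,1,0], 9⟩,
  ⟨4, [[1,6,2,6,0,4],[0,0,0,0,4,3,1],[0,4,3,0,0,4,3]], [0,1,2], 8⟩] 5 (by decide +kernel)
theorem mdl12 : Mdl Spor.M12 4 CfsgH7.M12.Rf 95040 :=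
  (Mdl.sub genU12 card12 (base7.satP RP b7 (by decide +kernel))).congr (eqK map12)

def U22 : List (List Nat) := [[0,0,0,0,5,5,0,0,0,0,4,4,1,1],[0,0,0,4,1,1,4,1,1,4,1,5,1,1,4],[5,1,1,5,0,0,5,1,1,4,0,4,4,1]]
theorem genU22 : genW gm U22 = K22 :=
  RP.gen_of I.inj (mem_inf' (RP.mem_stab (by decide +kernel)) (RP.mem_stab (by decide +kernel))) card22 [⟨1, [[0],[4]], [0,0,1,0,0,1,0,0,1,0], 22⟩,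
  ⟨2, [[4],[0,0,2,1],[0,4,0,3]], [0,1,0,2,0,2,0,1], 21⟩,
  ⟨3, [[0,4,1,2,0],[0,3,1,4,0,3]], [0,1,0,1,0,1,0,0,0], 20⟩,
  ⟨4, [[0,0,0,4,2,0,4],[0,2,1,4,1,3,4,3],[1,1,1,4,0,4,1,1,4],[1,1,4,1,1,1,4,0,4]], [0,1,2,3], 16⟩,
  ⟨5, [[0,3,3,0,4,0,4,0,0,4,1]], [0,0], 3⟩] 5 (by decide +kernel)
theorem mdl22 : Mdl Spor.M22 3 CfsgH7.M22.Rf 443520 :=
  (Mdl.sub genU22 card22 (base7.satP RP b7 (by decide +kernel))).congr (eqK map22)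

def U23 : List (List Nat) := [[2,0,5,1,1,5,5,0,0,2,0,5,0,0,2,0,4,0,2],[2,5,1,2,0,0,2,4,1,1,2,5,5,0,0,2],[2,0,4,0,4,1,5,0,0,4,4,1,5,5,0,2],[5,1,5,0,0,4,1,4,0,0,5,1,5,5]]
theorem genU23 : genW gm U23 = K23 :=
  RP.gen_of I.inj (RP.mem_stab (by decide +kernel)) card23 [⟨0, [[0],[4],[6]], [0,2,0,1,2,0,1,0,0,1], 23⟩,
  ⟨1, [[4],[0,4,1],[1,6,3]], [0,1,0,2,0,2,0,1,0,1], 22⟩,
  ⟨2, [[3,4,2],[1,2,2,4],[0,0,6,0,6]], [0,1,0,2,1,2,0,1,0], 21⟩,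
  ⟨3, [[2,6,4,3,1,4],[2,0,6,1,4,0,3],[3,3,1,6,0,2,2]], [0,1,2,0,0,0], 20⟩,
  ⟨4, [[2,2,1,4,2,2,1,4],[2,6,3,3,6,2,6,2],[0,0,6,2,6,1,1,6,4]], [0,1,2,0,1], 16⟩,
  ⟨5, [[0,0,0,2,4,3,6,4,2,2,4]], [0,0], 3⟩] 5 (by decide +kernel)
theorem mdl23 : Mdl Spor.M23 4 CfsgH7.M23.Rf 10200960 :=
  (Mdl.sub genU23 card23 (base7.satP RP b7 (by decide +kernel))).congr (eqK map23)

def U24 : List (List Nat) := [[2,0,5,1,1,5,5,0,0,2,0,5,0,0,2,0,4,0,2],[2,5,1,2,0,0,2,4,1,1,2,5,5,0,0,2],[2,0,4,0,4,1,5,0,0,4,4,1,5,5,0,2],[5,1,5,0,0,4,1,4,0,0,5,1,5,5],[4,0,4,1,2,1,1,4,4,0,5,1,1,2,4,0]]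
theorem genU24 : genW gm U24 = ⊤ :=
  RP.gen_of I.inj (mem_top' _) card24t [⟨0, [[0],[4],[6],[8]], [0,2,0,1,3,0,1,3], 24⟩,
  ⟨1, [[4],[0,4,1],[0,8,1]], [0,1,0,2,0,1,0,2,0,1,2,0], 23⟩,
  ⟨2, [[3,4,2],[1,2,2,4],[1,2,8,2]], [0,2,1,0,2,1,0,2,0], 22⟩,
  ⟨3, [[2,1,8],[3,0,8,1,2],[1,1,4,0,8,0]], [0,1,0,2,0,1,0,0], 21⟩,
  ⟨4, [[2,8,1,4,8,1,8],[0,2,4,8,0,2,4,8],[2,2,1,4,2,2,1,4]], [0,2,0,1,2,0,0], 20⟩,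
  ⟨5, [[2,8,0,6,8,1,6,8],[0,2,1,4,2,4,0,8,4],[1,3,8,1,4,3,0,8,0,8]], [0,1,2,0,1], 16⟩,
  ⟨6, [[0,2,4,8,6,2,4,3,6,0,2,4,8]], [0,0], 3⟩] 5 (by decide +kernel)
theorem mdl24 : Mdl M24 5 CfsgH7.M24.Rf 244823040 :=
  (Mdl.sub genU24 card24t (base7.satP RP b7 (by decide +kernel))).congr Subgroup.topEquiv

end CfsgH7.Gol
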