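import Cfsg.Agent.H7.TCMain
import Cfsg.Agent.H7.Mu.Co1mTD0
import Cfsg.Agent.H7.Mu.Co1mTD1
import Cfsg.Agent.H7.Mu.Co1mTD2

set_option autoImplicit false
set_option maxRecDepth 100000

namespace CfsgH7.Co1mT

noncomputable def R : RTr := (RTr.node (RTr.node (RTr.node (RTr.node (RTr.node (RTr.node (RTr.node (RTr.node (RTr.node (RTr.node (RTr.leaf ⟨true,30,[],[],0,0,false⟩) (RTr.leaf ⟨false,180,[210,90,180,210,90,30,150,180,60,180,210,90,150,180,90,150,180,30,30,180,30,240,210,180,150,60,240,210,180,240,150,210,180,240,180,210,240],[],31,11,false⟩)) (RTr.leaf ⟨false,180,[150,180,150,90,180,30,210,90,150,210,60,90,90,180,90],[],30,10,true⟩)) (RTr.node (RTr.leaf ⟨false,30,[30,90,210,150,120,120,210,60,180,120,150,120,180,30],[],23,1,false⟩) (RTr.leaf ⟨false,180,[240,210,240,150,60,150,60,120,180,150,30,90,150,90,60,240,210,180,210,150,120,240],[],29,3,false⟩))) (RTr.node (RTr.node (RTr.leaf ⟨false,210,[30,210,30],[],6,1,false⟩) (RTr.leaf ⟨false,120,[30,210,180,120,150,120,180,60,210,90,30,30,150,120],[],28,12,false⟩))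 (RTr.node (RTr.leaf ⟨false,240,[210,150,120,210,150,120,120,150,210,150,210,180,240,150],[],21,5,true⟩) (RTr.leaf ⟨false,60,[150,60,120,180,150,30,90,150,90,60,240,210,180,210,150,120,240,180,240,210,240,150],[],29,21,false⟩)))) (RTr.node (RTr.node (RTr.node (RTr.node (RTr.leaf ⟨false,90,[180,120,180,90,180,120,180],[],13,0,false⟩) (RTr.leaf ⟨false,30,[120,150,120,60,150,180,90,30,150,30,150,240,210,240,180,240,90,150,210,180,210,240],[],29,11,true⟩)) (RTr.leaf ⟨false,30,[90,150,210,240,210,150,210,120,30,90,150,240,150,210,120],[],25,9,false⟩)) (RTr.node (RTr.leaf ⟨false,90,[180,30,210,90,90,150,210,120,60,60,60,180,90,150],[],23,8,true⟩) (RTr.leaf ⟨false,90,[90,150,210,120,60,60,60,180,90,150,90,180,30,210],[],23,4,true⟩))) (RTr.node (RTr.node (RTr.leaf ⟨false,150,[90,150,90,150,90],[],11,3,false⟩) (RTr.leaf ⟨false,180,[210,90,150,120,120,150,90,90,90,210,180,150,240,150,240,150],[],27,9,false⟩)) (RTr.node (RTr.leaf ⟨false,240,[120,180,90,90,180,120,120,180,240,90,150],[],14,4,false⟩)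 (RTr.leaf ⟨false,150,[240,180,210,240,30,150,180,210,240,60,180,60,60,180,150,120,180,150,120,210,180,30,180,150,60,120,210,180,120,210,180,240,210,180,240,180,210],[],31,19,true⟩))))) (RTr.node (RTr.node (RTr.node (RTr.node (RTr.node (RTr.leaf ⟨false,120,[210,90,210],[],8,2,false⟩) (RTr.leaf ⟨false,150,[210,180,240,180,210,240,180,210,90,180,210,90,30,150,180,60,180,210,90,150,180,90,150,180,30,30,180,30,240,210,180,150,60,240,210,180,240],[],31,18,false⟩)) (RTr.leaf ⟨false,90,[150,90,60,150,120,30,90,180,90,150,240,90,150,240,30],[],26,6,false⟩)) (RTr.node (RTr.leaf ⟨false,150,[210,240,210,150,120,60,90,210,150,240,150,120,60,90,210],[],25,12,true⟩) (RTr.leaf ⟨false,60,[150,120,60,150,60,60,60,150,120,60,150,60,60],[],24,11,true⟩))) (RTr.node (RTr.node (RTr.leaf ⟨false,120,[180,90,150,240,120,150,90,240,150,120,180,90,150],[],19,7,false⟩) (RTr.leaf ⟨false,60,[60,120,210,30,180,90,150,90,180,210,60,90,90,150],[],28,14,true⟩)) (RTr.node (RTr.leaf ⟨false,90,[180,150,180,150,90,180,30,210,90,150,210,60,90,90,180],[],30,11,true⟩)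 (RTr.leaf ⟨false,120,[30,90,150,210,240,210,150,210,120,30,90,150,240,150,210],[],25,10,false⟩)))) (RTr.node (RTr.node (RTr.node (RTr.node (RTr.leaf ⟨false,150,[120,150,120,150,120],[],11,4,true⟩) (RTr.leaf ⟨false,210,[240,210,240,210,240,210,240,210,240,210,240],[],15,4,false⟩)) (RTr.leaf ⟨false,240,[150,180,210,120,120,120,150,90,90,150,120,210,180,150,240,150],[],27,3,true⟩)) (RTr.node (RTr.leaf ⟨false,240,[180,240,150,240,180,240,150],[],17,3,false⟩) (RTr.leaf ⟨false,240,[210,240,150,60,150,60,120,180,150,30,90,150,90,60,240,210,180,210,150,120,240,180],[],29,2,false⟩))) (RTr.node (RTr.node (RTr.leaf ⟨false,60,[60,120,30,90,60,60,60],[],12,4,true⟩) (RTr.leaf ⟨false,60,[150,180,90,30,150,30,150,240,210,240,180,240,90,150,210,180,210,240,30,120,150,120],[],29,7,true⟩)) (RTr.node (RTr.leaf ⟨false,150,[60,60,60,150,120,60,150,60,60,60,150,120,60],[],24,0,true⟩) (RTr.leaf ⟨false,210,[240,180,210,90,180,210,90,30,150,180,60,180,210,90,150,180,90,150,180,30,30,180,30,240,210,180,150,60,240,210,180,240,150,210,180,240,180],[],31,13,false⟩))))))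 (RTr.node (RTr.node (RTr.node (RTr.node (RTr.node (RTr.node (RTr.leaf ⟨false,60,[240,30,240],[],7,2,false⟩) (RTr.leaf ⟨false,30,[240,210,180,150,60,240,210,180,240,150,210,180,240,180,210,240,180,210,90,180,210,90,30,150,180,60,180,210,90,150,180,90,150,180,30,30,180],[],31,28,false⟩)) (RTr.leaf ⟨false,30,[90,150,30,30,30,150,30,90,150,30,30,30,150],[],24,5,false⟩)) (RTr.node (RTr.leaf ⟨false,240,[180,210,150,210,150,90,90,150,210,90,150,210,240,150],[],21,7,false⟩) (RTr.leaf ⟨false,60,[60,150,120,60,180,150,90,240,150,120,240,150,180,150,60],[],22,14,true⟩))) (RTr.node (RTr.node (RTr.leaf ⟨false,150,[90,90,150,210,90,150,210,240,150,240,180,210,150,210],[],21,2,false⟩) (RTr.leaf ⟨false,150,[180,210,120,120,120,150,90,90,150,120,210,180,150,240,150,240],[],27,2,true⟩)) (RTr.node (RTr.leaf ⟨false,90,[150,240,120,180,90,90,180,120,120,180,240],[],14,6,false⟩) (RTr.leaf ⟨false,240,[210,180,210,150,120,240,180,240,210,240,150,60,150,60,120,180,150,30,90,150,90,60],[],29,10,false⟩))))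 (RTr.node (RTr.node (RTr.node (RTr.node (RTr.leaf ⟨false,210,[240,210,240,210,240,210,240,210,240,210,240],[],15,10,false⟩) (RTr.leaf ⟨false,210,[180,240,150,210,180,240,180,210,240,180,210,90,180,210,90,30,150,180,60,180,210,90,150,180,90,150,180,30,30,180,30,240,210,180,150,60,240],[],31,21,false⟩)) (RTr.leaf ⟨false,180,[30,210,90,150,210,60,90,90,180,90,180,150,180,150,90],[],30,5,true⟩)) (RTr.node (RTr.leaf ⟨false,150,[180,150,180,120,180,120,120,30,210,150,120,210,60,180,120],[],30,8,false⟩) (RTr.leaf ⟨false,210,[150,120,240,180,240,210,240,150,60,150,60,120,180,150,30,90,150,90,60,240,210,180],[],29,7,false⟩))) (RTr.node (RTr.node (RTr.leaf ⟨false,120,[150,120,150,120,150],[],11,5,true⟩) (RTr.leaf ⟨false,30,[150,30,150,240,210,240,180,240,90,150,210,180,210,240,30,120,150,120,60,150,180,90],[],29,3,true⟩)) (RTr.node (RTr.leaf ⟨false,150,[210,60,90,150,120,30,210,150,30,90,150,120,60],[],16,6,false⟩) (RTr.leaf ⟨false,90,[150,90,60,240,210,180,210,150,120,240,180,240,210,240,150,60,150,60,120,180,150,30],[],29,14,false⟩)))))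 (RTr.node (RTr.node (RTr.node (RTr.node (RTr.node (RTr.leaf ⟨false,60,[210,60,210],[],6,3,true⟩) (RTr.leaf ⟨false,210,[240,210,240,210,240,210,240,210,240,210,240],[],15,0,false⟩)) (RTr.leaf ⟨false,120,[150,120,180,30,30,30,90,210,150,120,120,210,60,180],[],23,6,false⟩)) (RTr.node (RTr.leaf ⟨false,120,[60,150,210,60,90,150,120,30,210,150,30,90,150],[],16,8,false⟩) (RTr.leaf ⟨false,120,[120,210,60,180,120,150,120,180,30,30,30,90,210,150],[],23,11,false⟩))) (RTr.node (RTr.node (RTr.leaf ⟨false,120,[180,30,30,30,90,210,150,120,120,210,60,180,120,150],[],23,4,false⟩) (RTr.leaf ⟨false,90,[150,240,120,150,90,240,150,120,180,90,150,120,180],[],19,5,false⟩)) (RTr.node (RTr.leaf ⟨false,90,[180,90,180,150,180,150,90,180,30,210,90,150,210,60,90],[],30,13,true⟩) (RTr.leaf ⟨false,240,[150,210,120,30,90,150,210,240,210,150,210,120,30,90,150],[],25,13,false⟩)))) (RTr.node (RTr.node (RTr.node (RTr.node (RTr.leaf ⟨false,30,[30,150,180,150,240,90,150,240,120,150,180,30,90,150,30],[],22,1,false⟩)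 (RTr.leaf ⟨false,120,[210,180,120,210,180,240,210,180,240,180,210,150,240,180,210,240,30,150,180,210,240,60,180,60,60,180,150,120,180,150,120,210,180,30,180,150,60],[],31,31,true⟩)) (RTr.leaf ⟨false,90,[180,90,150,240,90,150,240,30,90,150,90,60,150,120,30],[],26,15,false⟩)) (RTr.node (RTr.leaf ⟨false,90,[150,120,180,90,150,240,120,150,90,240,150,120,180],[],19,9,false⟩) (RTr.leaf ⟨false,210,[180,150,240,150,240,150,180,210,120,120,120,150,90,90,150,120],[],27,8,true⟩))) (RTr.node (RTr.node (RTr.leaf ⟨false,180,[30,30,30,90,210,150,120,120,210,60,180,120,150,120],[],23,3,false⟩) (RTr.leaf ⟨false,180,[240,90,150,210,180,210,240,30,120,150,120,60,150,180,90,30,150,30,150,240,210,240],[],29,19,true⟩)) (RTr.node (RTr.leaf ⟨false,60,[90,90,150,60,60,120,210,30,180,90,150,90,180,210],[],28,3,true⟩) (RTr.leaf ⟨false,120,[60,150,180,90,30,150,30,150,240,210,240,180,240,90,150,210,180,210,240,30,120,150],[],29,8,true⟩))))))) (RTr.node (RTr.node (RTr.node (RTr.node (RTr.node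 (RTr.node (RTr.node (RTr.leaf ⟨true,150,[],[],2,0,false⟩) (RTr.leaf ⟨false,60,[180,60,60,180,150,120,180,150,120,210,180,30,180,150,60,120,210,180,120,210,180,240,210,180,240,180,210,150,240,180,210,240,30,150,180,210,240],[],31,9,true⟩)) (RTr.leaf ⟨false,60,[180,120,150,180,150,180,120,180,120,120,30,210,150,120,210],[],30,11,false⟩)) (RTr.node (RTr.leaf ⟨false,210,[150,30,90,150,120,60,150,210,60,90,150,120,30],[],16,13,false⟩) (RTr.leaf ⟨false,90,[150,210,60,90,90,180,90,180,150,180,150,90,180,30,210],[],30,2,true⟩))) (RTr.node (RTr.node (RTr.leaf ⟨false,210,[90,210,120],[],8,1,false⟩) (RTr.leaf ⟨false,150,[180,30,90,150,30,30,30,150,180,150,240,90,150,240,120],[],22,7,false⟩)) (RTr.node (RTr.leaf ⟨false,180,[150,90,240,150,120,240,150,180,150,60,60,60,150,120,60],[],22,9,true⟩) (RTr.leaf ⟨false,150,[210,240,210,150,210,120,30,90,150,240,150,210,120,30,90],[],25,7,false⟩)))) (RTr.node (RTr.node (RTr.node (RTr.node (RTr.leaf ⟨false,150,[90,240,150,120,180,90,150,120,180,90,150,240,120],[],19,1,false⟩)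 (RTr.leaf ⟨false,180,[150,120,180,150,120,210,180,30,180,150,60,120,210,180,120,210,180,240,210,180,240,180,210,150,240,180,210,240,30,150,180,210,240,60,180,60,60],[],31,5,true⟩)) (RTr.leaf ⟨false,60,[90,150,30,120,150,120,60,240,150,120,240,150,120,180,120],[],26,15,true⟩)) (RTr.node (RTr.leaf ⟨false,150,[120,240,150,180,150,60,60,60,150,120,60,180,150,90,240],[],22,5,true⟩) (RTr.leaf ⟨false,150,[120,120,30,210,180,120,150,120,180,60,210,90,30,30],[],28,14,false⟩))) (RTr.node (RTr.node (RTr.leaf ⟨false,210,[60,210,60],[],6,2,true⟩) (RTr.leaf ⟨false,60,[150,60,60,60,150,120,60,150,60,60,60,150,120],[],24,1,true⟩)) (RTr.node (RTr.leaf ⟨false,180,[60,210,90,30,30,150,120,120,30,210,180,120,150,120],[],28,5,false⟩) (RTr.leaf ⟨false,240,[180,210,240,180,210,90,180,210,90,30,150,180,60,180,210,90,150,180,90,150,180,30,30,180,30,240,210,180,150,60,240,210,180,240,150,210,180],[],31,15,false⟩))))) (RTr.node (RTr.node (RTr.node (RTr.node (RTr.node (RTr.leaf ⟨false,150,[150],[],2,0,false⟩)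 (RTr.leaf ⟨false,240,[210,180,150,60,240,210,180,240,150,210,180,240,180,210,240,180,210,90,180,210,90,30,150,180,60,180,210,90,150,180,90,150,180,30,30,180,30],[],31,27,false⟩)) (RTr.leaf ⟨false,90,[150,120,30,210,150,30,90,150,120,60,150,210,60],[],16,3,false⟩)) (RTr.node (RTr.leaf ⟨false,90,[150,90,150,90,150],[],11,0,false⟩) (RTr.leaf ⟨false,150,[90,90,150,120,210,180,150,240,150,240,150,180,210,120,120,120],[],27,13,true⟩))) (RTr.node (RTr.node (RTr.leaf ⟨false,210,[60,180,120,150,180,150,180,120,180,120,120,30,210,150,120],[],30,12,false⟩) (RTr.leaf ⟨false,150,[240,120,150,180,30,90,150,30,30,30,150,180,150,240,90],[],22,10,false⟩)) (RTr.node (RTr.leaf ⟨false,30,[30,30,30,120,60,90,30],[],12,3,false⟩) (RTr.leaf ⟨false,30,[90,210,150,120,120,210,60,180,120,150,120,180,30,30],[],23,0,false⟩)))) (RTr.node (RTr.node (RTr.node (RTr.node (RTr.leaf ⟨false,90,[30,30,30,30,30,120,60],[],12,5,false⟩) (RTr.leaf ⟨false,210,[240,210,240,210,240,210,240,210,240,210,240],[],15,8,false⟩))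 (RTr.leaf ⟨false,90,[150,60,60,120,210,30,180,90,150,90,180,210,60,90],[],28,1,true⟩)) (RTr.node (RTr.leaf ⟨false,90,[150,120,60,150,210,60,90,150,120,30,210,150,30],[],16,10,false⟩) (RTr.leaf ⟨false,210,[180,210,150,120,240,180,240,210,240,150,60,150,60,120,180,150,30,90,150,90,60,240],[],29,9,false⟩))) (RTr.node (RTr.node (RTr.leaf ⟨false,240,[150,90,240,150,210,150,240,120,150,240,180,210,180],[],20,2,false⟩) (RTr.leaf ⟨false,120,[180,150,30,90,150,90,60,240,210,180,210,150,120,240,180,240,210,240,150,60,150,60],[],29,18,false⟩)) (RTr.node (RTr.leaf ⟨false,180,[150,180,120,180,120,120,30,210,150,120,210,60,180,120,150],[],30,7,false⟩) (RTr.leaf ⟨false,180,[210,240,60,180,60,60,180,150,120,180,150,120,210,180,30,180,150,60,120,210,180,120,210,180,240,210,180,240,180,210,150,240,180,210,240,30,150],[],31,12,true⟩)))))) (RTr.node (RTr.node (RTr.node (RTr.node (RTr.node (RTr.node (RTr.leaf ⟨false,150,[240,120,180,90,90,180,120,120,180,240,90],[],14,5,false⟩) (RTr.leaf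 ⟨false,240,[210,180,240,150,210,180,240,180,210,240,180,210,90,180,210,90,30,150,180,60,180,210,90,150,180,90,150,180,30,30,180,30,240,210,180,150,60],[],31,22,false⟩)) (RTr.leaf ⟨false,120,[210,150,120,120,150,210,150,210,180,240,150,240,210,150],[],21,2,true⟩)) (RTr.node (RTr.leaf ⟨false,120,[210,60,180,120,150,180,150,180,120,180,120,120,30,210,150],[],30,13,false⟩) (RTr.leaf ⟨false,210,[240,30,120,150,120,60,150,180,90,30,150,30,150,240,210,240,180,240,90,150,210,180],[],29,13,true⟩))) (RTr.node (RTr.node (RTr.leaf ⟨false,150,[210,150,210,150,210,150,210],[],18,4,false⟩) (RTr.leaf ⟨false,60,[120,180,150,30,90,150,90,60,240,210,180,210,150,120,240,180,240,210,240,150,60,150],[],29,19,false⟩)) (RTr.node (RTr.leaf ⟨false,180,[90,150,120,180,90,150,240,120,150,90,240,150,120],[],19,10,false⟩) (RTr.leaf ⟨false,120,[60,60,60,180,90,150,90,180,30,210,90,90,150,210],[],23,0,true⟩)))) (RTr.node (RTr.node (RTr.node (RTr.node (RTr.leaf ⟨false,30,[30,90,30,120],[],10,1,false⟩)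 (RTr.leaf ⟨false,210,[240,210,240,210,240,210,240,210,240,210,240],[],15,2,false⟩)) (RTr.leaf ⟨false,60,[60,60,150,120,60,180,150,90,240,150,120,240,150,180,150],[],22,15,true⟩)) (RTr.node (RTr.leaf ⟨false,120,[180,60,210,90,30,30,150,120,120,30,210,180,120,150],[],28,6,false⟩) (RTr.leaf ⟨false,150,[120,120,150,90,90,90,210,180,150,240,150,240,150,180,210,90],[],27,6,false⟩))) (RTr.node (RTr.node (RTr.leaf ⟨false,30,[90,150,120,60,150,210,60,90,150,120,30,210,150],[],16,11,false⟩) (RTr.leaf ⟨false,150,[120,60,150,180,90,30,150,30,150,240,210,240,180,240,90,150,210,180,210,240,30,120],[],29,9,true⟩)) (RTr.node (RTr.leaf ⟨false,180,[120,120,180,90,240,150,120,240,180,90,90],[],14,0,true⟩) (RTr.leaf ⟨false,180,[150,60,240,210,180,240,150,210,180,240,180,210,240,180,210,90,180,210,90,30,150,180,60,180,210,90,150,180,90,150,180,30,30,180,30,240,210],[],31,25,false⟩))))) (RTr.node (RTr.node (RTr.node (RTr.node (RTr.node (RTr.leaf ⟨false,150,[180,120,180,120,120,30,210,150,120,210,60,180,120,150,180],[],30,6,false⟩)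 (RTr.leaf ⟨false,90,[150,240,150,210,120,30,90,150,210,240,210,150,210,120,30],[],25,15,false⟩)) (RTr.leaf ⟨false,90,[150,210,90,150,210,240,150,240,180,210,150,210,150,90],[],21,0,false⟩)) (RTr.node (RTr.leaf ⟨false,150,[240,150,210,120,30,90,150,210,240,210,150,210,120,30,90],[],25,14,false⟩) (RTr.leaf ⟨false,240,[150,180,150,60,60,60,150,120,60,180,150,90,240,150,120],[],22,3,true⟩))) (RTr.node (RTr.node (RTr.leaf ⟨false,90,[30,120,30,30],[],10,4,false⟩) (RTr.leaf ⟨false,150,[90,240,150,120,240,150,180,150,60,60,60,150,120,60,180],[],22,8,true⟩)) (RTr.node (RTr.leaf ⟨false,90,[90,180,120,120,180,240,90,150,240,120,180],[],14,1,false⟩) (RTr.leaf ⟨false,180,[210,240,30,150,180,210,240,60,180,60,60,180,150,120,180,150,120,210,180,30,180,150,60,120,210,180,120,210,180,240,210,180,240,180,210,150,240],[],31,17,true⟩)))) (RTr.node (RTr.node (RTr.node (RTr.node (RTr.leaf ⟨false,120,[150,120,150,120,150],[],11,1,true⟩) (RTr.leaf ⟨false,150,[120,210,180,30,180,150,60,120,210,180,120,210,180,240,210,180,240,180,210,150,240,180,210,240,30,150,180,210,240,60,180,60,60,180,150,120,180],[],31,1,true⟩))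 (RTr.leaf ⟨false,90,[150,30,30,30,150,30,90,150,30,30,30,150,30],[],24,4,false⟩)) (RTr.node (RTr.leaf ⟨false,150,[120,180,120,60,90,150,30,120,150,120,60,240,150,120,240],[],26,3,true⟩) (RTr.leaf ⟨false,240,[150,60,150,60,120,180,150,30,90,150,90,60,240,210,180,210,150,120,240,180,240,210],[],29,0,false⟩))) (RTr.node (RTr.node (RTr.leaf ⟨false,210,[120,60,60,60,180,90,150,90,180,30,210,90,90,150],[],23,1,true⟩) (RTr.leaf ⟨false,210,[240,210,150,120,60,90,210,150,240,150,120,60,90,210,150],[],25,11,true⟩)) (RTr.node (RTr.leaf ⟨false,180,[30,210,90,90,150,210,120,60,60,60,180,90,150,90],[],23,7,true⟩) (RTr.leaf ⟨false,150,[90,60,240,210,180,210,150,120,240,180,240,210,240,150,60,150,60,120,180,150,30,90],[],29,13,false⟩)))))))) (RTr.node (RTr.node (RTr.node (RTr.node (RTr.node (RTr.node (RTr.node (RTr.node (RTr.leaf ⟨true,90,[],[],1,0,false⟩) (RTr.leaf ⟨false,240,[210,240,210,240,210,240,210,240,210,240,210],[],15,5,false⟩)) (RTr.leaf ⟨false,30,[120,150,120,60,240,150,120,240,150,120,180,120,60,90,150],[],26,12,true⟩))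 (RTr.node (RTr.leaf ⟨false,30,[210,30,210],[],6,0,false⟩) (RTr.leaf ⟨false,90,[90,180,120,120,180,90,240,150,120,240,180],[],14,2,true⟩))) (RTr.node (RTr.node (RTr.leaf ⟨false,150,[240,210,150,120,210,150,120,120,150,210,150,210,180,240],[],21,6,true⟩) (RTr.leaf ⟨false,240,[90,150,240,120,150,180,30,90,150,30,30,30,150,180,150],[],22,12,false⟩)) (RTr.node (RTr.leaf ⟨false,90,[150,90,180,210,60,90,90,150,60,60,120,210,30,180],[],28,8,true⟩) (RTr.leaf ⟨false,210,[180,210,240,30,120,150,120,60,150,180,90,30,150,30,150,240,210,240,180,240,90,150],[],29,15,true⟩)))) (RTr.node (RTr.node (RTr.node (RTr.node (RTr.leaf ⟨false,90,[240,120,240],[],9,0,false⟩) (RTr.leaf ⟨false,30,[30,180,30,240,210,180,150,60,240,210,180,240,150,210,180,240,180,210,240,180,210,90,180,210,90,30,150,180,60,180,210,90,150,180,90,150,180],[],31,31,false⟩)) (RTr.leaf ⟨false,240,[210,150,210,120,30,90,150,240,150,210,120,30,90,150,210],[],25,5,false⟩)) (RTr.node (RTr.leaf ⟨false,120,[150,120,60,240,150,120,240,150,120,180,120,60,90,150,30],[],26,11,true⟩)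 (RTr.leaf ⟨false,150,[120,60,90,210,150,240,150,120,60,90,210,150,210,240,210],[],25,8,true⟩))) (RTr.node (RTr.node (RTr.leaf ⟨false,90,[150,30,30,30,150,180,150,240,90,150,240,120,150,180,30],[],22,4,false⟩) (RTr.leaf ⟨false,150,[240,90,150,240,120,150,180,30,90,150,30,30,30,150,180],[],22,13,false⟩)) (RTr.node (RTr.leaf ⟨false,90,[210,180,150,240,150,240,150,180,210,90,150,120,120,150,90,90],[],27,0,false⟩) (RTr.leaf ⟨false,180,[120,210,180,240,210,180,240,180,210,150,240,180,210,240,30,150,180,210,240,60,180,60,60,180,150,120,180,150,120,210,180,30,180,150,60,120,210],[],31,29,true⟩))))) (RTr.node (RTr.node (RTr.node (RTr.node (RTr.node (RTr.leaf ⟨false,180,[180],[],3,0,false⟩) (RTr.leaf ⟨false,240,[180,210,90,180,210,90,30,150,180,60,180,210,90,150,180,90,150,180,30,30,180,30,240,210,180,150,60,240,210,180,240,150,210,180,240,180,210],[],31,12,false⟩)) (RTr.leaf ⟨false,90,[90,150,60,60,120,210,30,180,90,150,90,180,210,60],[],28,2,true⟩)) (RTr.node (RTr.leaf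 ⟨false,120,[30,210,150,30,90,150,120,60,150,210,60,90,150],[],16,1,false⟩) (RTr.leaf ⟨false,210,[150,210,180,240,150,240,210,150,120,210,150,120,120,150],[],21,11,true⟩))) (RTr.node (RTr.node (RTr.leaf ⟨false,150,[120,180,90,150,240,120,150,90,240,150,120,180,90],[],19,8,false⟩) (RTr.leaf ⟨false,90,[210,150,210,240,210,150,120,60,90,210,150,240,150,120,60],[],25,14,true⟩)) (RTr.node (RTr.leaf ⟨false,180,[150,240,150,240,150,180,210,90,150,120,120,150,90,90,90,210],[],27,15,false⟩) (RTr.leaf ⟨false,240,[210,240,180,240,90,150,210,180,210,240,30,120,150,120,60,150,180,90,30,150,30,150],[],29,22,true⟩)))) (RTr.node (RTr.node (RTr.node (RTr.node (RTr.leaf ⟨false,210,[60,210,60],[],6,0,true⟩) (RTr.leaf ⟨false,90,[150,180,30,30,180,30,240,210,180,150,60,240,210,180,240,150,210,180,240,180,210,240,180,210,90,180,210,90,30,150,180,60,180,210,90,150,180],[],31,34,false⟩)) (RTr.leaf ⟨false,120,[210,30,180,90,150,90,180,210,60,90,90,150,60,60],[],28,12,true⟩)) (RTr.node (RTr.leaf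 ⟨false,30,[90,150,90,60,150,120,30,90,180,90,150,240,90,150,240],[],26,7,false⟩) (RTr.leaf ⟨false,150,[240,210,240,180,240,90,150,210,180,210,240,30,120,150,120,60,150,180,90,30,150,30],[],29,0,true⟩))) (RTr.node (RTr.node (RTr.leaf ⟨false,210,[150,210,150,210,150,210,150],[],18,5,false⟩) (RTr.leaf ⟨false,150,[180,90,30,150,30,150,240,210,240,180,240,90,150,210,180,210,240,30,120,150,120,60],[],29,6,true⟩)) (RTr.node (RTr.leaf ⟨false,120,[180,90,240,150,120,240,180,90,90,180,120],[],14,10,true⟩) (RTr.leaf ⟨false,180,[210,150,240,180,210,240,30,150,180,210,240,60,180,60,60,180,150,120,180,150,120,210,180,30,180,150,60,120,210,180,120,210,180,240,210,180,240],[],31,21,true⟩)))))) (RTr.node (RTr.node (RTr.node (RTr.node (RTr.node (RTr.node (RTr.leaf ⟨false,120,[240,90,240],[],9,2,false⟩) (RTr.leaf ⟨false,210,[180,150,60,240,210,180,240,150,210,180,240,180,210,240,180,210,90,180,210,90,30,150,180,60,180,210,90,150,180,90,150,180,30,30,180,30,240],[],31,26,false⟩)) (RTr.leaf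 ⟨false,30,[210,90,90,150,210,120,60,60,60,180,90,150,90,180],[],23,6,true⟩)) (RTr.node (RTr.leaf ⟨false,150,[210,90,150,210,240,150,240,180,210,150,210,150,90,90],[],21,14,false⟩) (RTr.leaf ⟨false,60,[60,60,150,120,60,150,60,60,60,150,120,60,150],[],24,6,true⟩))) (RTr.node (RTr.node (RTr.leaf ⟨false,150,[120,210,180,150,240,150,240,150,180,210,120,120,120,150,90,90],[],27,10,true⟩) (RTr.leaf ⟨false,120,[180,240,90,150,240,120,180,90,90,180,120],[],14,9,false⟩)) (RTr.node (RTr.leaf ⟨false,180,[120,150,180,150,180,120,180,120,120,30,210,150,120,210,60],[],30,10,false⟩) (RTr.leaf ⟨false,180,[150,240,150,240,150,180,210,120,120,120,150,90,90,150,120,210],[],27,7,true⟩)))) (RTr.node (RTr.node (RTr.node (RTr.node (RTr.leaf ⟨false,240,[90,240,120],[],9,1,false⟩) (RTr.leaf ⟨false,180,[90,150,180,30,30,180,30,240,210,180,150,60,240,210,180,240,150,210,180,240,180,210,240,180,210,90,180,210,90,30,150,180,60,180,210,90,150],[],31,35,false⟩)) (RTr.leaf ⟨false,150,[120,180,90,150,120,180,90,150,240,120,150,90,240],[],19,12,false⟩))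 (RTr.node (RTr.leaf ⟨false,240,[90,150,240,120,180,90,90,180,120,120,180],[],14,7,false⟩) (RTr.leaf ⟨false,60,[240,210,180,210,150,120,240,180,240,210,240,150,60,150,60,120,180,150,30,90,150,90],[],29,11,false⟩))) (RTr.node (RTr.node (RTr.leaf ⟨false,150,[120,30,90,180,90,150,240,90,150,240,30,90,150,90,60],[],26,2,false⟩) (RTr.leaf ⟨false,210,[180,240,150,240,210,150,120,210,150,120,120,150,210,150],[],21,9,true⟩)) (RTr.node (RTr.leaf ⟨false,240,[150,120,240,150,120,180,120,60,90,150,30,120,150,120,60],[],26,7,true⟩) (RTr.leaf ⟨false,150,[60,240,210,180,240,150,210,180,240,180,210,240,180,210,90,180,210,90,30,150,180,60,180,210,90,150,180,90,150,180,30,30,180,30,240,210,180],[],31,24,false⟩))))) (RTr.node (RTr.node (RTr.node (RTr.node (RTr.node (RTr.leaf ⟨false,120,[30,30,90,30],[],10,2,false⟩) (RTr.leaf ⟨false,210,[90,180,210,90,30,150,180,60,180,210,90,150,180,90,150,180,30,30,180,30,240,210,180,150,60,240,210,180,240,150,210,180,240,180,210,240,180],[],31,10,false⟩))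 (RTr.leaf ⟨false,150,[210,150,210,150,210,150,210],[],18,2,false⟩)) (RTr.node (RTr.leaf ⟨false,90,[60,60,60,60,60,120,30],[],12,0,true⟩) (RTr.leaf ⟨false,30,[210,90,150,210,60,90,90,180,90,180,150,180,150,90,180],[],30,4,true⟩))) (RTr.node (RTr.node (RTr.leaf ⟨false,180,[90,180,120,180,90,180,120],[],13,5,false⟩) (RTr.leaf ⟨false,150,[90,60,150,120,30,90,180,90,150,240,90,150,240,30,90],[],26,5,false⟩)) (RTr.node (RTr.leaf ⟨false,150,[120,60,150,60,60,60,150,120,60,150,60,60,60],[],24,10,true⟩) (RTr.leaf ⟨false,180,[90,30,150,30,150,240,210,240,180,240,90,150,210,180,210,240,30,120,150,120,60,150],[],29,5,true⟩)))) (RTr.node (RTr.node (RTr.node (RTr.node (RTr.leaf ⟨false,90,[60,120,60,60],[],10,2,true⟩) (RTr.leaf ⟨false,210,[90,150,180,90,150,180,30,30,180,30,240,210,180,150,60,240,210,180,240,150,210,180,240,180,210,240,180,210,90,180,210,90,30,150,180,60,180],[],31,0,false⟩)) (RTr.leaf ⟨false,210,[150,210,120,30,90,150,240,150,210,120,30,90,150,210,240],[],25,4,false⟩))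 (RTr.node (RTr.leaf ⟨false,90,[90,150,210,90,150,210,240,150,240,180,210,150,210,150],[],21,1,false⟩) (RTr.leaf ⟨false,240,[210,150,120,60,90,210,150,240,150,120,60,90,210,150,210],[],25,10,true⟩))) (RTr.node (RTr.node (RTr.leaf ⟨false,240,[30,90,150,90,60,150,120,30,90,180,90,150,240,90,150],[],26,8,false⟩) (RTr.leaf ⟨false,180,[210,120,120,120,150,90,90,150,120,210,180,150,240,150,240,150],[],27,1,true⟩)) (RTr.node (RTr.leaf ⟨false,90,[240,150,120,180,90,150,120,180,90,150,240,120,150],[],19,0,false⟩) (RTr.leaf ⟨false,180,[60,60,180,150,120,180,150,120,210,180,30,180,150,60,120,210,180,120,210,180,240,210,180,240,180,210,150,240,180,210,240,30,150,180,210,240,60],[],31,8,true⟩))))))) (RTr.node (RTr.node (RTr.node (RTr.node (RTr.node (RTr.node (RTr.node (RTr.leaf ⟨true,210,[],[],4,0,false⟩) (RTr.leaf ⟨false,60,[180,150,120,180,150,120,210,180,30,180,150,60,120,210,180,120,210,180,240,210,180,240,180,210,150,240,180,210,240,30,150,180,210,240,60,180,60],[],31,6,true⟩))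 (RTr.leaf ⟨false,150,[120,210,150,120,120,150,210,150,210,180,240,150,240,210],[],21,3,true⟩)) (RTr.node (RTr.leaf ⟨false,210,[150,210,150,210,150,210,150],[],18,3,false⟩) (RTr.leaf ⟨false,120,[60,240,150,120,240,150,120,180,120,60,90,150,30,120,150],[],26,9,true⟩))) (RTr.node (RTr.node (RTr.leaf ⟨false,210,[150,210,150,210,150,210,150],[],18,1,false⟩) (RTr.leaf ⟨false,240,[180,90,90,180,120,120,180,90,240,150,120],[],14,4,true⟩)) (RTr.node (RTr.leaf ⟨false,90,[150,240,90,150,240,30,90,150,90,60,150,120,30,90,180],[],26,13,false⟩) (RTr.leaf ⟨false,240,[180,240,90,150,210,180,210,240,30,120,150,120,60,150,180,90,30,150,30,150,240,210],[],29,20,true⟩)))) (RTr.node (RTr.node (RTr.node (RTr.node (RTr.leaf ⟨false,90,[150,210,180,210,240,30,120,150,120,60,150,180,90,30,150,30,150,240,210,240,180,240],[],29,17,true⟩) (RTr.leaf ⟨false,90,[150,180,90,150,180,30,30,180,30,240,210,180,150,60,240,210,180,240,150,210,180,240,180,210,240,180,210,90,180,210,90,30,150,180,60,180,210],[],31,37,false⟩))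 (RTr.leaf ⟨false,120,[60,90,210,150,210,240,210,150,120,60,90,210,150,240,150],[],25,0,true⟩)) (RTr.node (RTr.leaf ⟨false,120,[30,90,150,240,150,210,120,30,90,150,210,240,210,150,210],[],25,1,false⟩) (RTr.leaf ⟨false,120,[120,120,150,90,90,150,120,210,180,150,240,150,240,150,180,210],[],27,16,true⟩))) (RTr.node (RTr.node (RTr.leaf ⟨false,150,[120,60,150,60,60,60,150,120,60,150,60,60,60],[],24,3,true⟩) (RTr.leaf ⟨false,150,[210,240,150,240,180,210,150,210,150,90,90,150,210,90],[],21,11,false⟩)) (RTr.node (RTr.leaf ⟨false,90,[150,30,120,150,120,60,240,150,120,240,150,120,180,120,60],[],26,14,true⟩) (RTr.leaf ⟨false,180,[240,180,210,240,180,210,90,180,210,90,30,150,180,60,180,210,90,150,180,90,150,180,30,30,180,30,240,210,180,150,60,240,210,180,240,150,210],[],31,16,false⟩))))) (RTr.node (RTr.node (RTr.node (RTr.node (RTr.node (RTr.leaf ⟨false,150,[90,240,150,210,150,240,120,150,240,180,210,180,240],[],20,1,false⟩) (RTr.leaf ⟨false,240,[210,240,210,240,210,240,210,240,210,240,210],[],15,9,false⟩))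 (RTr.leaf ⟨false,180,[120,60,90,150,30,120,150,120,60,240,150,120,240,150,120],[],26,1,true⟩)) (RTr.node (RTr.leaf ⟨false,180,[240,150,240,180,240,150,240],[],17,6,false⟩) (RTr.leaf ⟨false,90,[150,210,240,150,240,180,210,150,210,150,90,90,150,210],[],21,12,false⟩))) (RTr.node (RTr.node (RTr.leaf ⟨false,180,[210,150,210,150,90,90,150,210,90,150,210,240,150,240],[],21,6,false⟩) (RTr.leaf ⟨false,90,[240,150,120,240,150,180,150,60,60,60,150,120,60,180,150],[],22,7,true⟩)) (RTr.node (RTr.leaf ⟨false,240,[90,150,240,30,90,150,90,60,150,120,30,90,180,90,150],[],26,11,false⟩) (RTr.leaf ⟨false,90,[210,150,240,150,120,60,90,210,150,210,240,210,150,120,60],[],25,5,true⟩)))) (RTr.node (RTr.node (RTr.node (RTr.node (RTr.leaf ⟨false,60,[60,60,60,120,30,90,60],[],12,6,true⟩) (RTr.leaf ⟨false,180,[210,90,150,180,90,150,180,30,30,180,30,240,210,180,150,60,240,210,180,240,150,210,180,240,180,210,240,180,210,90,180,210,90,30,150,180,60],[],31,1,false⟩)) (RTr.leaf ⟨false,180,[30,90,150,30,30,30,150,180,150,240,90,150,240,120,150],[],22,6,false⟩))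 (RTr.node (RTr.leaf ⟨false,150,[30,30,30,150,30,90,150,30,30,30,150,30,90],[],24,3,false⟩) (RTr.leaf ⟨false,210,[60,180,120,150,120,180,30,30,30,90,210,150,120,120],[],23,9,false⟩))) (RTr.node (RTr.node (RTr.leaf ⟨false,150,[210,150,210,150,210,150,210],[],18,6,false⟩) (RTr.leaf ⟨false,90,[30,150,30,150,240,210,240,180,240,90,150,210,180,210,240,30,120,150,120,60,150,180],[],29,4,true⟩)) (RTr.node (RTr.leaf ⟨false,120,[240,180,90,90,180,120,120,180,90,240,150],[],14,5,true⟩) (RTr.leaf ⟨false,30,[150,180,210,240,60,180,60,60,180,150,120,180,150,120,210,180,30,180,150,60,120,210,180,120,210,180,240,210,180,240,180,210,150,240,180,210,240],[],31,14,true⟩)))))) (RTr.node (RTr.node (RTr.node (RTr.node (RTr.node (RTr.node (RTr.leaf ⟨false,210,[210],[],4,0,false⟩) (RTr.leaf ⟨false,240,[60,180,60,60,180,150,120,180,150,120,210,180,30,180,150,60,120,210,180,120,210,180,240,210,180,240,180,210,150,240,180,210,240,30,150,180,210],[],31,10,true⟩)) (RTr.leaf ⟨false,210,[240,210,150,210,120,30,90,150,240,150,210,120,30,90,150],[],25,6,false⟩))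 (RTr.node (RTr.leaf ⟨false,60,[60,60,60,60,120,30,90],[],12,7,true⟩) (RTr.leaf ⟨false,210,[150,120,120,210,60,180,120,150,120,180,30,30,30,90],[],23,13,false⟩))) (RTr.node (RTr.node (RTr.leaf ⟨false,150,[90,90,90,210,180,150,240,150,240,150,180,210,90,150,120,120],[],27,3,false⟩) (RTr.leaf ⟨false,240,[150,120,180,90,150,120,180,90,150,240,120,150,90],[],19,13,false⟩)) (RTr.node (RTr.leaf ⟨false,240,[150,240,180,240,150,240,180],[],17,1,false⟩) (RTr.leaf ⟨false,30,[210,180,120,150,120,180,60,210,90,30,30,150,120,120],[],28,11,false⟩)))) (RTr.node (RTr.node (RTr.node (RTr.node (RTr.leaf ⟨false,180,[120,120,180,240,90,150,240,120,180,90,90],[],14,11,false⟩) (RTr.leaf ⟨false,150,[60,120,210,180,120,210,180,240,210,180,240,180,210,150,240,180,210,240,30,150,180,210,240,60,180,60,60,180,150,120,180,150,120,210,180,30,180],[],31,33,true⟩)) (RTr.leaf ⟨false,180,[120,180,120,120,30,210,150,120,210,60,180,120,150,180,150],[],30,5,false⟩)) (RTr.node (RTr.leaf ⟨false,60,[60,60,120,30,90,60,60],[],12,5,true⟩)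 (RTr.leaf ⟨false,150,[90,180,210,60,90,90,150,60,60,120,210,30,180,90],[],28,7,true⟩))) (RTr.node (RTr.node (RTr.leaf ⟨false,60,[120,30,90,60,60,60,60],[],12,3,true⟩) (RTr.leaf ⟨false,180,[90,240,150,120,240,180,90,90,180,120,120],[],14,9,true⟩)) (RTr.node (RTr.leaf ⟨false,30,[90,180,90,150,240,90,150,240,30,90,150,90,60,150,120],[],26,0,false⟩) (RTr.leaf ⟨false,240,[210,240,210,240,210,240,210,240,210,240,210],[],15,1,false⟩))))) (RTr.node (RTr.node (RTr.node (RTr.node (RTr.node (RTr.leaf ⟨false,60,[90,60,120,60],[],10,3,true⟩) (RTr.leaf ⟨false,60,[90,90,180,90,180,150,180,150,90,180,30,210,90,150,210],[],30,15,true⟩)) (RTr.leaf ⟨false,60,[210,90,30,30,150,120,120,30,210,180,120,150,120,180],[],28,4,false⟩)) (RTr.node (RTr.leaf ⟨false,90,[150,240,30,90,150,90,60,150,120,30,90,180,90,150,240],[],26,10,false⟩) (RTr.leaf ⟨false,150,[30,30,30,150,30,90,150,30,30,30,150,30,90],[],24,10,false⟩))) (RTr.node (RTr.node (RTr.leaf ⟨false,120,[60,90,30,30,30,30,30],[],12,7,false⟩)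 (RTr.leaf ⟨false,150,[210,180,240,150,240,210,150,120,210,150,120,120,150,210],[],21,10,true⟩)) (RTr.node (RTr.leaf ⟨false,240,[150,240,180,210,150,210,150,90,90,150,210,90,150,210],[],21,9,false⟩) (RTr.leaf ⟨false,150,[240,150,120,60,90,210,150,210,240,210,150,120,60,90,210],[],25,3,true⟩)))) (RTr.node (RTr.node (RTr.node (RTr.node (RTr.leaf ⟨false,60,[60,90,60,120],[],10,4,true⟩) (RTr.leaf ⟨false,120,[210,180,30,180,150,60,120,210,180,120,210,180,240,210,180,240,180,210,150,240,180,210,240,30,150,180,210,240,60,180,60,60,180,150,120,180,150],[],31,0,true⟩)) (RTr.leaf ⟨false,120,[180,90,150,120,180,90,150,240,120,150,90,240,150],[],19,11,false⟩)) (RTr.node (RTr.leaf ⟨false,30,[210,150,30,90,150,120,60,150,210,60,90,150,120],[],16,0,false⟩) (RTr.leaf ⟨false,210,[240,150,60,150,60,120,180,150,30,90,150,90,60,240,210,180,210,150,120,240,180,240],[],29,1,false⟩))) (RTr.node (RTr.node (RTr.leaf ⟨false,180,[90,150,90,180,30,210,90,90,150,210,120,60,60,60],[],23,11,true⟩)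 (RTr.leaf ⟨false,150,[120,60,240,150,120,240,150,120,180,120,60,90,150,30,120],[],26,10,true⟩)) (RTr.node (RTr.leaf ⟨false,180,[90,90,180,120,120,180,240,90,150,240,120],[],14,2,false⟩) (RTr.leaf ⟨false,60,[120,210,180,120,210,180,240,210,180,240,180,210,150,240,180,210,240,30,150,180,210,240,60,180,60,60,180,150,120,180,150,120,210,180,30,180,150],[],31,32,true⟩))))))))) (RTr.node (RTr.node (RTr.node (RTr.node (RTr.node (RTr.node (RTr.node (RTr.node (RTr.node (RTr.leaf ⟨false,60,[30],[],0,1,false⟩) (RTr.leaf ⟨false,150,[180,30,30,180,30,240,210,180,150,60,240,210,180,240,150,210,180,240,180,210,240,180,210,90,180,210,90,30,150,180,60,180,210,90,150,180,90],[],31,33,false⟩)) (RTr.leaf ⟨false,180,[150,60,60,60,150,120,60,180,150,90,240,150,120,240,150],[],22,1,true⟩)) (RTr.node (RTr.leaf ⟨false,210,[90,30,30,150,120,120,30,210,180,120,150,120,180,60],[],28,3,false⟩) (RTr.leaf ⟨false,150,[180,150,240,90,150,240,120,150,180,30,90,150,30,30,30],[],22,15,false⟩))) (RTr.node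 (RTr.node (RTr.leaf ⟨false,30,[30,30,30,30,120,60,90],[],12,4,false⟩) (RTr.leaf ⟨false,120,[120,180,90,240,150,120,240,180,90,90,180],[],14,11,true⟩)) (RTr.node (RTr.leaf ⟨false,150,[30,90,150,30,30,30,150,30,90,150,30,30,30],[],24,13,false⟩) (RTr.leaf ⟨false,240,[120,150,240,180,210,180,240,150,90,240,150,210,150],[],20,9,false⟩)))) (RTr.node (RTr.node (RTr.node (RTr.node (RTr.leaf ⟨false,90,[210,120,210],[],8,0,false⟩) (RTr.leaf ⟨false,180,[240,210,180,240,180,210,150,240,180,210,240,30,150,180,210,240,60,180,60,60,180,150,120,180,150,120,210,180,30,180,150,60,120,210,180,120,210],[],31,26,true⟩)) (RTr.leaf ⟨false,210,[150,210,150,90,90,150,210,90,150,210,240,150,240,180],[],21,5,false⟩)) (RTr.node (RTr.leaf ⟨false,210,[120,30,90,150,240,150,210,120,30,90,150,210,240,210,150],[],25,2,false⟩) (RTr.leaf ⟨false,210,[240,150,240,180,210,150,210,150,90,90,150,210,90,150],[],21,10,false⟩))) (RTr.node (RTr.node (RTr.leaf ⟨false,120,[120,150,210,150,210,180,240,150,240,210,150,120,210,150],[],21,14,true⟩)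 (RTr.leaf ⟨false,210,[180,120,150,120,180,60,210,90,30,30,150,120,120,30],[],28,10,false⟩)) (RTr.node (RTr.leaf ⟨false,150,[120,60,90,210,150,210,240,210,150,120,60,90,210,150,240],[],25,1,true⟩) (RTr.leaf ⟨false,150,[60,150,60,120,180,150,30,90,150,90,60,240,210,180,210,150,120,240,180,240,210,240],[],29,22,false⟩))))) (RTr.node (RTr.node (RTr.node (RTr.node (RTr.node (RTr.leaf ⟨false,150,[120,30,210,150,30,90,150,120,60,150,210,60,90],[],16,2,false⟩) (RTr.leaf ⟨false,180,[30,240,210,180,150,60,240,210,180,240,150,210,180,240,180,210,240,180,210,90,180,210,90,30,150,180,60,180,210,90,150,180,90,150,180,30,30],[],31,29,false⟩)) (RTr.leaf ⟨false,150,[30,90,150,30,30,30,150,30,90,150,30,30,30],[],24,6,false⟩)) (RTr.node (RTr.leaf ⟨false,150,[120,150,120,150,120],[],11,2,true⟩) (RTr.leaf ⟨false,90,[90,180,90,180,150,180,150,90,180,30,210,90,150,210,60],[],30,14,true⟩))) (RTr.node (RTr.node (RTr.leaf ⟨false,150,[30,30,30,150,180,150,240,90,150,240,120,150,180,30,90],[],22,3,false⟩)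 (RTr.leaf ⟨false,240,[120,150,180,30,90,150,30,30,30,150,180,150,240,90,150],[],22,9,false⟩)) (RTr.node (RTr.leaf ⟨false,90,[180,120,180,90,180,120,180],[],13,4,false⟩) (RTr.leaf ⟨false,180,[210,240,180,210,90,180,210,90,30,150,180,60,180,210,90,150,180,90,150,180,30,30,180,30,240,210,180,150,60,240,210,180,240,150,210,180,240],[],31,14,false⟩)))) (RTr.node (RTr.node (RTr.node (RTr.node (RTr.leaf ⟨false,60,[90,210,150,240,150,120,60,90,210,150,210,240,210,150,120],[],25,6,true⟩) (RTr.leaf ⟨false,30,[180,150,60,120,210,180,120,210,180,240,210,180,240,180,210,150,240,180,210,240,30,150,180,210,240,60,180,60,60,180,150,120,180,150,120,210,180],[],31,35,true⟩)) (RTr.leaf ⟨false,180,[210,180,240,150,90,240,150,210,150,240,120,150,240],[],20,5,false⟩)) (RTr.node (RTr.leaf ⟨false,150,[210,120,30,90,150,240,150,210,120,30,90,150,210,240,210],[],25,3,false⟩) (RTr.leaf ⟨false,30,[30,150,120,120,30,210,180,120,150,120,180,60,210,90],[],28,1,false⟩))) (RTr.node (RTr.node (RTr.leaf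 ⟨false,150,[60,60,120,210,30,180,90,150,90,180,210,60,90,90],[],28,0,true⟩) (RTr.leaf ⟨false,30,[30,30,150,180,150,240,90,150,240,120,150,180,30,90,150],[],22,2,false⟩)) (RTr.node (RTr.leaf ⟨false,210,[60,90,90,150,60,60,120,210,30,180,90,150,90,180],[],28,4,true⟩) (RTr.leaf ⟨false,180,[60,180,210,90,150,180,90,150,180,30,30,180,30,240,210,180,150,60,240,210,180,240,150,210,180,240,180,210,240,180,210,90,180,210,90,30,150],[],31,3,false⟩)))))) (RTr.node (RTr.node (RTr.node (RTr.node (RTr.node (RTr.node (RTr.leaf ⟨false,30,[60],[],0,0,false⟩) (RTr.leaf ⟨false,90,[180,210,90,30,150,180,60,180,210,90,150,180,90,150,180,30,30,180,30,240,210,180,150,60,240,210,180,240,150,210,180,240,180,210,240,180,210],[],31,9,false⟩)) (RTr.leaf ⟨false,150,[210,150,210,180,240,150,240,210,150,120,210,150,120,120],[],21,12,true⟩)) (RTr.node (RTr.leaf ⟨false,90,[150,90,180,30,210,90,90,150,210,120,60,60,60,180],[],23,10,true⟩) (RTr.leaf ⟨false,150,[180,150,60,60,60,150,120,60,180,150,90,240,150,120,240],[],22,2,true⟩)))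 (RTr.node (RTr.node (RTr.leaf ⟨false,90,[90,210,180,150,240,150,240,150,180,210,90,150,120,120,150,90],[],27,1,false⟩) (RTr.leaf ⟨false,240,[150,210,180,240,180,210,240,180,210,90,180,210,90,30,150,180,60,180,210,90,150,180,90,150,180,30,30,180,30,240,210,180,150,60,240,210,180],[],31,19,false⟩)) (RTr.node (RTr.leaf ⟨false,90,[240,150,120,240,180,90,90,180,120,120,180],[],14,8,true⟩) (RTr.leaf ⟨false,120,[120,150,90,90,150,120,210,180,150,240,150,240,150,180,210,120],[],27,15,true⟩)))) (RTr.node (RTr.node (RTr.node (RTr.node (RTr.leaf ⟨false,120,[120,180,240,90,150,240,120,180,90,90,180],[],14,10,false⟩) (RTr.leaf ⟨false,90,[30,150,180,60,180,210,90,150,180,90,150,180,30,30,180,30,240,210,180,150,60,240,210,180,240,150,210,180,240,180,210,240,180,210,90,180,210],[],31,6,false⟩)) (RTr.leaf ⟨false,180,[120,150,120,180,60,210,90,30,30,150,120,120,30,210],[],28,9,false⟩)) (RTr.node (RTr.leaf ⟨false,180,[120,180,90,180,120,180,90],[],13,3,false⟩) (RTr.leaf ⟨false,90,[150,120,210,180,150,240,150,240,150,180,210,120,120,120,150,90],[],27,11,true⟩)))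 (RTr.node (RTr.node (RTr.leaf ⟨false,210,[30,210,30],[],6,3,false⟩) (RTr.leaf ⟨false,60,[60,150,120,60,150,60,60,60,150,120,60,150,60],[],24,12,true⟩)) (RTr.node (RTr.leaf ⟨false,120,[120,30,210,150,120,210,60,180,120,150,180,150,180,120,180],[],30,2,false⟩) (RTr.leaf ⟨false,60,[180,210,90,150,180,90,150,180,30,30,180,30,240,210,180,150,60,240,210,180,240,150,210,180,240,180,210,240,180,210,90,180,210,90,30,150,180],[],31,2,false⟩))))) (RTr.node (RTr.node (RTr.node (RTr.node (RTr.node (RTr.leaf ⟨false,30,[240,60,240],[],7,0,false⟩) (RTr.leaf ⟨false,120,[180,150,120,210,180,30,180,150,60,120,210,180,120,210,180,240,210,180,240,180,210,150,240,180,210,240,30,150,180,210,240,60,180,60,60,180,150],[],31,3,true⟩)) (RTr.leaf ⟨false,240,[150,120,240,180,90,90,180,120,120,180,90],[],14,7,true⟩)) (RTr.node (RTr.leaf ⟨false,30,[120,60,90,30,30,30,30],[],12,0,false⟩) (RTr.leaf ⟨false,150,[120,180,60,210,90,30,30,150,120,120,30,210,180,120],[],28,7,false⟩))) (RTr.node (RTr.node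 (RTr.leaf ⟨false,150,[240,180,210,180,240,150,90,240,150,210,150,240,120],[],20,7,false⟩) (RTr.leaf ⟨false,150,[240,90,150,240,30,90,150,90,60,150,120,30,90,180,90],[],26,12,false⟩)) (RTr.node (RTr.leaf ⟨false,120,[120,30,210,180,120,150,120,180,60,210,90,30,30,150],[],28,13,false⟩) (RTr.leaf ⟨false,240,[180,240,210,240,150,60,150,60,120,180,150,30,90,150,90,60,240,210,180,210,150,120],[],29,4,false⟩)))) (RTr.node (RTr.node (RTr.node (RTr.node (RTr.leaf ⟨false,150,[90,150,90,150,90],[],11,5,false⟩) (RTr.leaf ⟨false,30,[150,180,60,180,210,90,150,180,90,150,180,30,30,180,30,240,210,180,150,60,240,210,180,240,150,210,180,240,180,210,240,180,210,90,180,210,90],[],31,5,false⟩)) (RTr.leaf ⟨false,150,[90,180,30,210,90,150,210,60,90,90,180,90,180,150,180],[],30,7,true⟩)) (RTr.node (RTr.leaf ⟨false,120,[180,90,180,120,180,90,180],[],13,6,false⟩) (RTr.leaf ⟨false,210,[150,240,150,120,60,90,210,150,210,240,210,150,120,60,90],[],25,4,true⟩))) (RTr.node (RTr.node (RTr.leaf ⟨false,240,[120,150,90,240,150,120,180,90,150,120,180,90,150],[],19,3,false⟩)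 (RTr.leaf ⟨false,120,[150,90,90,90,210,180,150,240,150,240,150,180,210,90,150,120],[],27,4,false⟩)) (RTr.node (RTr.leaf ⟨false,180,[150,90,180,30,210,90,150,210,60,90,90,180,90,180,150],[],30,8,true⟩) (RTr.leaf ⟨false,210,[180,240,180,210,150,240,180,210,240,30,150,180,210,240,60,180,60,60,180,150,120,180,150,120,210,180,30,180,150,60,120,210,180,120,210,180,240],[],31,24,true⟩))))))) (RTr.node (RTr.node (RTr.node (RTr.node (RTr.node (RTr.node (RTr.node (RTr.leaf ⟨true,180,[],[],3,0,false⟩) (RTr.leaf ⟨false,120,[210,180,240,210,180,240,180,210,150,240,180,210,240,30,150,180,210,240,60,180,60,60,180,150,120,180,150,120,210,180,30,180,150,60,120,210,180],[],31,28,true⟩)) (RTr.leaf ⟨false,150,[60,60,60,150,120,60,150,60,60,60,150,120,60],[],24,7,true⟩)) (RTr.node (RTr.leaf ⟨false,30,[150,30,90,150,30,30,30,150,30,90,150,30,30],[],24,7,false⟩) (RTr.leaf ⟨false,120,[210,180,150,240,150,240,150,180,210,120,120,120,150,90,90,150],[],27,9,true⟩))) (RTr.node (RTr.node (RTr.leaf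 ⟨false,210,[120,210,90],[],8,3,false⟩) (RTr.leaf ⟨false,30,[90,150,90,60,240,210,180,210,150,120,240,180,240,210,240,150,60,150,60,120,180,150],[],29,15,false⟩)) (RTr.node (RTr.leaf ⟨false,150,[120,240,150,120,180,120,60,90,150,30,120,150,120,60,240],[],26,6,true⟩) (RTr.leaf ⟨false,210,[90,150,210,60,90,90,180,90,180,150,180,150,90,180,30],[],30,3,true⟩)))) (RTr.node (RTr.node (RTr.node (RTr.node (RTr.leaf ⟨false,150,[240,180,240,150,240,180,240],[],17,0,false⟩) (RTr.leaf ⟨false,150,[120,180,150,120,210,180,30,180,150,60,120,210,180,120,210,180,240,210,180,240,180,210,150,240,180,210,240,30,150,180,210,240,60,180,60,60,180],[],31,4,true⟩)) (RTr.leaf ⟨false,210,[120,30,90,150,210,240,210,150,210,120,30,90,150,240,150],[],25,11,false⟩)) (RTr.node (RTr.leaf ⟨false,180,[120,150,120,180,30,30,30,90,210,150,120,120,210,60],[],23,7,false⟩) (RTr.leaf ⟨false,180,[210,150,120,240,180,240,210,240,150,60,150,60,120,180,150,30,90,150,90,60,240,210],[],29,8,false⟩))) (RTr.node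 (RTr.node (RTr.leaf ⟨false,30,[30,30,150,30,90,150,30,30,30,150,30,90,150],[],24,2,false⟩) (RTr.leaf ⟨false,60,[150,120,60,150,60,60,60,150,120,60,150,60,60],[],24,4,true⟩)) (RTr.node (RTr.leaf ⟨false,120,[240,150,120,180,120,60,90,150,30,120,150,120,60,240,150],[],26,5,true⟩) (RTr.leaf ⟨false,150,[120,240,180,240,210,240,150,60,150,60,120,180,150,30,90,150,90,60,240,210,180,210],[],29,6,false⟩))))) (RTr.node (RTr.node (RTr.node (RTr.node (RTr.node (RTr.leaf ⟨false,90,[150,90,150,90,150],[],11,4,false⟩) (RTr.leaf ⟨false,120,[240,180,240,210,240,150,60,150,60,120,180,150,30,90,150,90,60,240,210,180,210,150],[],29,5,false⟩)) (RTr.leaf ⟨false,240,[150,120,240,150,180,150,60,60,60,150,120,60,180,150,90],[],22,6,true⟩)) (RTr.node (RTr.leaf ⟨false,150,[210,120,30,90,150,210,240,210,150,210,120,30,90,150,240],[],25,12,false⟩) (RTr.leaf ⟨false,90,[90,90,210,180,150,240,150,240,150,180,210,90,150,120,120,150],[],27,2,false⟩))) (RTr.node (RTr.node (RTr.leaf ⟨false,60,[210,60,210],[],6,1,true⟩)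 (RTr.leaf ⟨false,30,[150,180,150,240,90,150,240,120,150,180,30,90,150,30,30],[],22,0,false⟩)) (RTr.node (RTr.leaf ⟨false,240,[150,240,210,150,120,210,150,120,120,150,210,150,210,180],[],21,7,true⟩) (RTr.leaf ⟨false,240,[150,210,150,240,120,150,240,180,210,180,240,150,90],[],20,13,false⟩)))) (RTr.node (RTr.node (RTr.node (RTr.node (RTr.leaf ⟨false,120,[30,90,60,60,60,60,60],[],12,2,true⟩) (RTr.leaf ⟨false,120,[150,120,60,150,180,90,30,150,30,150,240,210,240,180,240,90,150,210,180,210,240,30],[],29,10,true⟩)) (RTr.leaf ⟨false,240,[150,240,180,240,150,240,180],[],17,5,false⟩)) (RTr.node (RTr.leaf ⟨false,90,[90,150,120,210,180,150,240,150,240,150,180,210,120,120,120,150],[],27,12,true⟩) (RTr.leaf ⟨false,210,[90,150,120,120,150,90,90,90,210,180,150,240,150,240,150,180],[],27,8,false⟩))) (RTr.node (RTr.node (RTr.leaf ⟨false,150,[240,150,180,210,90,150,120,120,150,90,90,90,210,180,150,240],[],27,12,false⟩) (RTr.leaf ⟨false,30,[150,240,210,240,180,240,90,150,210,180,210,240,30,120,150,120,60,150,180,90,30,150],[],29,1,true⟩))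 (RTr.node (RTr.leaf ⟨false,90,[180,120,120,180,240,90,150,240,120,180,90],[],14,0,false⟩) (RTr.leaf ⟨false,150,[210,180,210,240,30,120,150,120,60,150,180,90,30,150,30,150,240,210,240,180,240,90],[],29,16,true⟩)))))) (RTr.node (RTr.node (RTr.node (RTr.node (RTr.node (RTr.node (RTr.leaf ⟨false,180,[90,150,240,90,150,240,30,90,150,90,60,150,120,30,90],[],26,14,false⟩) (RTr.leaf ⟨false,210,[180,30,180,150,60,120,210,180,120,210,180,240,210,180,240,180,210,150,240,180,210,240,30,150,180,210,240,60,180,60,60,180,150,120,180,150,120],[],31,37,true⟩)) (RTr.leaf ⟨false,150,[180,210,90,150,120,120,150,90,90,90,210,180,150,240,150,240],[],27,10,false⟩)) (RTr.node (RTr.leaf ⟨false,120,[60,150,60,60,60,150,120,60,150,60,60,60,150],[],24,9,true⟩) (RTr.leaf ⟨false,240,[90,150,210,180,210,240,30,120,150,120,60,150,180,90,30,150,30,150,240,210,240,180],[],29,18,true⟩))) (RTr.node (RTr.node (RTr.leaf ⟨false,150,[240,180,210,150,210,150,90,90,150,210,90,150,210,240],[],21,8,false⟩)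 (RTr.leaf ⟨false,60,[150,60,60,60,150,120,60,150,60,60,60,150,120],[],24,8,true⟩)) (RTr.node (RTr.leaf ⟨false,240,[150,240,150,180,210,90,150,120,120,150,90,90,90,210,180,150],[],27,13,false⟩) (RTr.leaf ⟨false,60,[60,60,180,90,150,90,180,30,210,90,90,150,210,120],[],23,14,true⟩)))) (RTr.node (RTr.node (RTr.node (RTr.node (RTr.leaf ⟨false,240,[30,240,60],[],7,1,false⟩) (RTr.leaf ⟨false,150,[180,60,180,210,90,150,180,90,150,180,30,30,180,30,240,210,180,150,60,240,210,180,240,150,210,180,240,180,210,240,180,210,90,180,210,90,30],[],31,4,false⟩)) (RTr.leaf ⟨false,90,[180,210,60,90,90,150,60,60,120,210,30,180,90,150],[],28,6,true⟩)) (RTr.node (RTr.leaf ⟨false,120,[30,210,150,120,210,60,180,120,150,180,150,180,120,180,120],[],30,1,false⟩) (RTr.leaf ⟨false,120,[150,210,150,210,180,240,150,240,210,150,120,210,150,120],[],21,13,true⟩))) (RTr.node (RTr.node (RTr.leaf ⟨false,60,[60,150,120,60,150,60,60,60,150,120,60,150,60],[],24,5,true⟩) (RTr.leaf ⟨false,210,[180,150,240,150,240,150,180,210,90,150,120,120,150,90,90,90],[],27,16,false⟩))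 (RTr.node (RTr.leaf ⟨false,90,[180,30,210,90,150,210,60,90,90,180,90,180,150,180,150],[],30,6,true⟩) (RTr.leaf ⟨false,240,[210,240,210,240,210,240,210,240,210,240,210],[],15,11,false⟩))))) (RTr.node (RTr.node (RTr.node (RTr.node (RTr.node (RTr.leaf ⟨false,30,[90,30,120,30],[],10,0,false⟩) (RTr.leaf ⟨false,210,[180,240,180,210,240,180,210,90,180,210,90,30,150,180,60,180,210,90,150,180,90,150,180,30,30,180,30,240,210,180,150,60,240,210,180,240,150],[],31,17,false⟩)) (RTr.leaf ⟨false,180,[90,90,180,120,120,180,90,240,150,120,240],[],14,3,true⟩)) (RTr.node (RTr.leaf ⟨false,150,[210,150,210,150,210,150,210],[],18,0,false⟩) (RTr.leaf ⟨false,120,[150,180,30,90,150,30,30,30,150,180,150,240,90,150,240],[],22,8,false⟩))) (RTr.node (RTr.node (RTr.leaf ⟨false,150,[120,210,60,180,120,150,180,150,180,120,180,120,120,30,210],[],30,14,false⟩) (RTr.leaf ⟨false,90,[150,120,120,150,90,90,90,210,180,150,240,150,240,150,180,210],[],27,7,false⟩)) (RTr.node (RTr.leaf ⟨false,90,[240,150,210,150,240,120,150,240,180,210,180,240,150],[],20,0,false⟩)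 (RTr.leaf ⟨false,240,[150,240,150,180,210,120,120,120,150,90,90,150,120,210,180,150],[],27,5,true⟩)))) (RTr.node (RTr.node (RTr.node (RTr.node (RTr.leaf ⟨false,150,[30,120,150,120,60,240,150,120,240,150,120,180,120,60,90],[],26,13,true⟩) (RTr.leaf ⟨false,150,[180,90,150,180,30,30,180,30,240,210,180,150,60,240,210,180,240,150,210,180,240,180,210,240,180,210,90,180,210,90,30,150,180,60,180,210,90],[],31,36,false⟩)) (RTr.leaf ⟨false,210,[150,210,240,210,150,120,60,90,210,150,240,150,120,60,90],[],25,13,true⟩)) (RTr.node (RTr.leaf ⟨false,150,[240,150,240,150,180,210,120,120,120,150,90,90,150,120,210,180],[],27,6,true⟩) (RTr.leaf ⟨false,210,[120,120,120,150,90,90,150,120,210,180,150,240,150,240,150,180],[],27,0,true⟩))) (RTr.node (RTr.node (RTr.leaf ⟨false,180,[90,150,90,180,210,60,90,90,150,60,60,120,210,30],[],28,9,true⟩) (RTr.leaf ⟨false,90,[150,240,120,150,180,30,90,150,30,30,30,150,180,150,240],[],22,11,false⟩)) (RTr.node (RTr.leaf ⟨false,90,[210,150,120,120,210,60,180,120,150,120,180,30,30,30],[],23,14,false⟩)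 (RTr.leaf ⟨false,180,[240,180,210,150,240,180,210,240,30,150,180,210,240,60,180,60,60,180,150,120,180,150,120,210,180,30,180,150,60,120,210,180,120,210,180,240,210],[],31,23,true⟩)))))))) (RTr.node (RTr.node (RTr.node (RTr.node (RTr.node (RTr.node (RTr.node (RTr.node (RTr.leaf ⟨false,120,[90],[],1,1,false⟩) (RTr.leaf ⟨false,180,[240,150,210,180,240,180,210,240,180,210,90,180,210,90,30,150,180,60,180,210,90,150,180,90,150,180,30,30,180,30,240,210,180,150,60,240,210],[],31,20,false⟩)) (RTr.leaf ⟨false,120,[180,120,120,30,210,150,120,210,60,180,120,150,180,150,180],[],30,4,false⟩)) (RTr.node (RTr.leaf ⟨false,150,[120,120,210,60,180,120,150,120,180,30,30,30,90,210],[],23,12,false⟩) (RTr.leaf ⟨false,210,[150,120,210,60,180,120,150,180,150,180,120,180,120,120,30],[],30,15,false⟩))) (RTr.node (RTr.node (RTr.leaf ⟨false,210,[150,240,120,150,240,180,210,180,240,150,90,240,150],[],20,11,false⟩) (RTr.leaf ⟨false,150,[240,150,180,210,120,120,120,150,90,90,150,120,210,180,150,240],[],27,4,true⟩))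 (RTr.node (RTr.leaf ⟨false,180,[240,150,240,210,150,120,210,150,120,120,150,210,150,210],[],21,8,true⟩) (RTr.leaf ⟨false,150,[210,150,240,120,150,240,180,210,180,240,150,90,240],[],20,12,false⟩)))) (RTr.node (RTr.node (RTr.node (RTr.node (RTr.leaf ⟨false,150,[120,240,180,90,90,180,120,120,180,90,240],[],14,6,true⟩) (RTr.leaf ⟨false,210,[240,30,150,180,210,240,60,180,60,60,180,150,120,180,150,120,210,180,30,180,150,60,120,210,180,120,210,180,240,210,180,240,180,210,150,240,180],[],31,16,true⟩)) (RTr.leaf ⟨false,240,[180,240,150,240,180,240,150],[],17,7,false⟩)) (RTr.node (RTr.leaf ⟨false,150,[120,150,120,150,120],[],11,0,true⟩) (RTr.leaf ⟨false,210,[150,120,120,150,210,150,210,180,240,150,240,210,150,120],[],21,1,true⟩))) (RTr.node (RTr.node (RTr.leaf ⟨false,150,[210,60,90,90,180,90,180,150,180,150,90,180,30,210,90],[],30,1,true⟩) (RTr.leaf ⟨false,150,[30,90,150,90,60,240,210,180,210,150,120,240,180,240,210,240,150,60,150,60,120,180],[],29,16,false⟩)) (RTr.node (RTr.leaf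 ⟨false,30,[180,90,150,90,180,210,60,90,90,150,60,60,120,210],[],28,10,true⟩) (RTr.leaf ⟨false,180,[150,60,120,210,180,120,210,180,240,210,180,240,180,210,150,240,180,210,240,30,150,180,210,240,60,180,60,60,180,150,120,180,150,120,210,180,30],[],31,34,true⟩))))) (RTr.node (RTr.node (RTr.node (RTr.node (RTr.node (RTr.leaf ⟨false,150,[120,180,30,30,30,90,210,150,120,120,210,60,180,120],[],23,5,false⟩) (RTr.leaf ⟨false,210,[240,210,240,210,240,210,240,210,240,210,240],[],15,6,false⟩)) (RTr.leaf ⟨false,180,[90,180,150,180,150,90,180,30,210,90,150,210,60,90,90],[],30,12,true⟩)) (RTr.node (RTr.leaf ⟨false,210,[90,150,210,240,150,240,180,210,150,210,150,90,90,150],[],21,13,false⟩) (RTr.leaf ⟨false,90,[150,30,30,30,150,30,90,150,30,30,30,150,30],[],24,11,false⟩))) (RTr.node (RTr.node (RTr.leaf ⟨false,210,[150,90,90,150,210,90,150,210,240,150,240,180,210,150],[],21,3,false⟩) (RTr.leaf ⟨false,60,[150,120,60,180,150,90,240,150,120,240,150,180,150,60,60],[],22,13,true⟩)) (RTr.node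 (RTr.leaf ⟨false,150,[240,150,240,150,180,210,90,150,120,120,150,90,90,90,210,180],[],27,14,false⟩) (RTr.leaf ⟨false,240,[180,210,150,240,180,210,240,30,150,180,210,240,60,180,60,60,180,150,120,180,150,120,210,180,30,180,150,60,120,210,180,120,210,180,240,210,180],[],31,22,true⟩)))) (RTr.node (RTr.node (RTr.node (RTr.node (RTr.leaf ⟨false,60,[90,30,30,30,30,30,120],[],12,6,false⟩) (RTr.leaf ⟨false,210,[180,120,210,180,240,210,180,240,180,210,150,240,180,210,240,30,150,180,210,240,60,180,60,60,180,150,120,180,150,120,210,180,30,180,150,60,120],[],31,30,true⟩)) (RTr.leaf ⟨false,30,[90,150,30,30,30,150,180,150,240,90,150,240,120,150,180],[],22,5,false⟩)) (RTr.node (RTr.leaf ⟨false,30,[90,150,30,30,30,150,30,90,150,30,30,30,150],[],24,12,false⟩) (RTr.leaf ⟨false,210,[150,120,60,90,210,150,240,150,120,60,90,210,150,210,240],[],25,9,true⟩))) (RTr.node (RTr.node (RTr.leaf ⟨false,30,[90,60,60,60,60,60,120],[],12,1,true⟩) (RTr.leaf ⟨false,150,[60,120,180,150,30,90,150,90,60,240,210,180,210,150,120,240,180,240,210,240,150,60],[],29,20,false⟩))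 (RTr.node (RTr.leaf ⟨false,90,[180,120,120,180,90,240,150,120,240,180,90],[],14,1,true⟩) (RTr.leaf ⟨false,60,[240,210,180,240,150,210,180,240,180,210,240,180,210,90,180,210,90,30,150,180,60,180,210,90,150,180,90,150,180,30,30,180,30,240,210,180,150],[],31,23,false⟩)))))) (RTr.node (RTr.node (RTr.node (RTr.node (RTr.node (RTr.node (RTr.leaf ⟨false,90,[120],[],1,0,false⟩) (RTr.leaf ⟨false,210,[90,30,150,180,60,180,210,90,150,180,90,150,180,30,30,180,30,240,210,180,150,60,240,210,180,240,150,210,180,240,180,210,240,180,210,90,180],[],31,7,false⟩)) (RTr.leaf ⟨false,150,[240,30,90,150,90,60,150,120,30,90,180,90,150,240,90],[],26,9,false⟩)) (RTr.node (RTr.leaf ⟨false,60,[90,150,120,30,210,150,30,90,150,120,60,150,210],[],16,4,false⟩) (RTr.leaf ⟨false,60,[60,60,150,120,60,150,60,60,60,150,120,60,150],[],24,13,true⟩))) (RTr.node (RTr.node (RTr.leaf ⟨false,150,[90,150,90,150,90],[],11,1,false⟩) (RTr.leaf ⟨false,120,[240,150,180,150,60,60,60,150,120,60,180,150,90,240,150],[],22,4,true⟩))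 (RTr.node (RTr.leaf ⟨false,120,[150,240,180,210,180,240,150,90,240,150,210,150,240],[],20,8,false⟩) (RTr.leaf ⟨false,150,[240,120,150,240,180,210,180,240,150,90,240,150,210],[],20,10,false⟩)))) (RTr.node (RTr.node (RTr.node (RTr.node (RTr.leaf ⟨false,180,[90,180,120,180,90,180,120],[],13,1,false⟩) (RTr.leaf ⟨false,90,[60,240,210,180,210,150,120,240,180,240,210,240,150,60,150,60,120,180,150,30,90,150],[],29,12,false⟩)) (RTr.leaf ⟨false,60,[150,120,30,90,180,90,150,240,90,150,240,30,90,150,90],[],26,3,false⟩)) (RTr.node (RTr.leaf ⟨false,120,[180,90,90,180,120,120,180,240,90,150,240],[],14,3,false⟩) (RTr.leaf ⟨false,90,[150,210,240,210,150,210,120,30,90,150,240,150,210,120,30],[],25,8,false⟩))) (RTr.node (RTr.node (RTr.leaf ⟨false,120,[60,180,150,90,240,150,120,240,150,180,150,60,60,60,150],[],22,11,true⟩) (RTr.leaf ⟨false,60,[180,150,90,240,150,120,240,150,180,150,60,60,60,150,120],[],22,10,true⟩)) (RTr.node (RTr.leaf ⟨false,180,[240,150,240,180,240,150,240],[],17,2,false⟩)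 (RTr.leaf ⟨false,240,[30,150,180,210,240,60,180,60,60,180,150,120,180,150,120,210,180,30,180,150,60,120,210,180,120,210,180,240,210,180,240,180,210,150,240,180,210],[],31,15,true⟩))))) (RTr.node (RTr.node (RTr.node (RTr.node (RTr.node (RTr.leaf ⟨false,120,[60,60,90,60],[],10,0,true⟩) (RTr.leaf ⟨false,180,[30,30,180,30,240,210,180,150,60,240,210,180,240,150,210,180,240,180,210,240,180,210,90,180,210,90,30,150,180,60,180,210,90,150,180,90,150],[],31,32,false⟩)) (RTr.leaf ⟨false,180,[210,60,90,90,150,60,60,120,210,30,180,90,150,90],[],28,5,true⟩)) (RTr.node (RTr.leaf ⟨false,150,[90,180,30,210,90,90,150,210,120,60,60,60,180,90],[],23,9,true⟩) (RTr.leaf ⟨false,150,[60,60,60,150,120,60,180,150,90,240,150,120,240,150,180],[],22,0,true⟩))) (RTr.node (RTr.node (RTr.leaf ⟨false,180,[120,180,90,180,120,180,90],[],13,7,false⟩) (RTr.leaf ⟨false,150,[120,60,180,150,90,240,150,120,240,150,180,150,60,60,60],[],22,12,true⟩)) (RTr.node (RTr.leaf ⟨false,90,[150,210,120,60,60,60,180,90,150,90,180,30,210,90],[],23,3,true⟩)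 (RTr.leaf ⟨false,150,[180,210,240,60,180,60,60,180,150,120,180,150,120,210,180,30,180,150,60,120,210,180,120,210,180,240,210,180,240,180,210,150,240,180,210,240,30],[],31,13,true⟩)))) (RTr.node (RTr.node (RTr.node (RTr.node (RTr.leaf ⟨false,150,[240,120,150,90,240,150,120,180,90,150,120,180,90],[],19,4,false⟩) (RTr.leaf ⟨false,180,[150,120,210,180,30,180,150,60,120,210,180,120,210,180,240,210,180,240,180,210,150,240,180,210,240,30,150,180,210,240,60,180,60,60,180,150,120],[],31,2,true⟩)) (RTr.leaf ⟨false,120,[150,120,180,60,210,90,30,30,150,120,120,30,210,180],[],28,8,false⟩)) (RTr.node (RTr.leaf ⟨false,180,[240,150,90,240,150,210,150,240,120,150,240,180,210],[],20,3,false⟩) (RTr.leaf ⟨false,120,[150,90,90,150,120,210,180,150,240,150,240,150,180,210,120,120],[],27,14,true⟩))) (RTr.node (RTr.node (RTr.leaf ⟨false,30,[30,30,120,60,90,30,30],[],12,2,false⟩) (RTr.leaf ⟨false,150,[30,150,240,210,240,180,240,90,150,210,180,210,240,30,120,150,120,60,150,180,90,30],[],29,2,true⟩))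 (RTr.node (RTr.leaf ⟨false,120,[180,120,60,90,150,30,120,150,120,60,240,150,120,240,150],[],26,2,true⟩) (RTr.leaf ⟨false,210,[240,60,180,60,60,180,150,120,180,150,120,210,180,30,180,150,60,120,210,180,120,210,180,240,210,180,240,180,210,150,240,180,210,240,30,150,180],[],31,11,true⟩))))))) (RTr.node (RTr.node (RTr.node (RTr.node (RTr.node (RTr.node (RTr.node (RTr.leaf ⟨false,240,[240],[],5,0,false⟩) (RTr.leaf ⟨false,210,[150,240,180,210,240,30,150,180,210,240,60,180,60,60,180,150,120,180,150,120,210,180,30,180,150,60,120,210,180,120,210,180,240,210,180,240,180],[],31,20,true⟩)) (RTr.leaf ⟨false,30,[150,30,90,150,30,30,30,150,30,90,150,30,30],[],24,0,false⟩)) (RTr.node (RTr.leaf ⟨false,210,[150,210,150,210,150,210,150],[],18,7,false⟩) (RTr.leaf ⟨false,60,[60,180,90,150,90,180,30,210,90,90,150,210,120,60],[],23,13,true⟩))) (RTr.node (RTr.node (RTr.leaf ⟨false,90,[150,90,150,90,150],[],11,2,false⟩) (RTr.leaf ⟨false,60,[240,150,120,240,150,120,180,120,60,90,150,30,120,150,120],[],26,8,true⟩))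 (RTr.node (RTr.leaf ⟨false,120,[150,90,240,150,120,180,90,150,120,180,90,150,240],[],19,2,false⟩) (RTr.leaf ⟨false,90,[30,30,150,120,120,30,210,180,120,150,120,180,60,210],[],28,2,false⟩)))) (RTr.node (RTr.node (RTr.node (RTr.node (RTr.leaf ⟨false,240,[120,240,90],[],9,3,false⟩) (RTr.leaf ⟨false,60,[60,180,150,120,180,150,120,210,180,30,180,150,60,120,210,180,120,210,180,240,210,180,240,180,210,150,240,180,210,240,30,150,180,210,240,60,180],[],31,7,true⟩)) (RTr.leaf ⟨false,120,[60,150,60,60,60,150,120,60,150,60,60,60,150],[],24,2,true⟩)) (RTr.node (RTr.leaf ⟨false,240,[150,120,180,120,60,90,150,30,120,150,120,60,240,150,120],[],26,4,true⟩) (RTr.leaf ⟨false,120,[210,60,180,120,150,120,180,30,30,30,90,210,150,120],[],23,10,false⟩))) (RTr.node (RTr.node (RTr.leaf ⟨false,150,[120,60,150,210,60,90,150,120,30,210,150,30,90],[],16,9,false⟩) (RTr.leaf ⟨false,30,[90,150,240,150,210,120,30,90,150,210,240,210,150,210,120],[],25,0,false⟩)) (RTr.node (RTr.leaf ⟨false,60,[180,120,150,120,180,30,30,30,90,210,150,120,120,210],[],23,8,false⟩)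 (RTr.leaf ⟨false,240,[210,180,240,180,210,150,240,180,210,240,30,150,180,210,240,60,180,60,60,180,150,120,180,150,120,210,180,30,180,150,60,120,210,180,120,210,180],[],31,25,true⟩))))) (RTr.node (RTr.node (RTr.node (RTr.node (RTr.node (RTr.leaf ⟨false,60,[120,60,60,90],[],10,1,true⟩) (RTr.leaf ⟨false,240,[150,120,60,90,210,150,210,240,210,150,120,60,90,210,150],[],25,2,true⟩)) (RTr.leaf ⟨false,60,[120,210,30,180,90,150,90,180,210,60,90,90,150,60],[],28,13,true⟩)) (RTr.node (RTr.leaf ⟨false,60,[150,210,60,90,150,120,30,210,150,30,90,150,120],[],16,7,false⟩) (RTr.leaf ⟨false,120,[120,150,90,90,90,210,180,150,240,150,240,150,180,210,90,150],[],27,5,false⟩))) (RTr.node (RTr.node (RTr.leaf ⟨false,120,[150,120,150,120,150],[],11,3,true⟩) (RTr.leaf ⟨false,180,[120,120,30,210,150,120,210,60,180,120,150,180,150,180,120],[],30,3,false⟩)) (RTr.node (RTr.leaf ⟨false,120,[180,90,180,120,180,90,180],[],13,2,false⟩) (RTr.leaf ⟨false,180,[150,30,90,150,90,60,240,210,180,210,150,120,240,180,240,210,240,150,60,150,60,120],[],29,17,false⟩))))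 (RTr.node (RTr.node (RTr.node (RTr.node (RTr.leaf ⟨false,30,[120,30,30,90],[],10,3,false⟩) (RTr.leaf ⟨false,240,[210,240,210,240,210,240,210,240,210,240,210],[],15,7,false⟩)) (RTr.leaf ⟨false,210,[90,90,150,210,120,60,60,60,180,90,150,90,180,30],[],23,5,true⟩)) (RTr.node (RTr.leaf ⟨false,30,[30,30,150,30,90,150,30,30,30,150,30,90,150],[],24,9,false⟩) (RTr.leaf ⟨false,210,[240,180,240,90,150,210,180,210,240,30,120,150,120,60,150,180,90,30,150,30,150,240],[],29,21,true⟩))) (RTr.node (RTr.node (RTr.leaf ⟨false,240,[180,210,180,240,150,90,240,150,210,150,240,120,150],[],20,6,false⟩) (RTr.leaf ⟨false,120,[30,90,180,90,150,240,90,150,240,30,90,150,90,60,150],[],26,1,false⟩)) (RTr.node (RTr.leaf ⟨false,210,[180,240,150,90,240,150,210,150,240,120,150,240,180],[],20,4,false⟩) (RTr.leaf ⟨false,210,[180,240,210,180,240,180,210,150,240,180,210,240,30,150,180,210,240,60,180,60,60,180,150,120,180,150,120,210,180,30,180,150,60,120,210,180,120],[],31,27,true⟩)))))) (RTr.node (RTr.node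 (RTr.node (RTr.node (RTr.node (RTr.node (RTr.leaf ⟨false,30,[210,30,210],[],6,2,false⟩) (RTr.leaf ⟨false,30,[180,30,240,210,180,150,60,240,210,180,240,150,210,180,240,180,210,240,180,210,90,180,210,90,30,150,180,60,180,210,90,150,180,90,150,180,30],[],31,30,false⟩)) (RTr.leaf ⟨false,150,[210,150,90,90,150,210,90,150,210,240,150,240,180,210],[],21,4,false⟩)) (RTr.node (RTr.leaf ⟨false,210,[60,90,150,120,30,210,150,30,90,150,120,60,150],[],16,5,false⟩) (RTr.leaf ⟨false,30,[210,150,120,210,60,180,120,150,180,150,180,120,180,120,120],[],30,0,false⟩))) (RTr.node (RTr.node (RTr.leaf ⟨false,150,[240,180,240,150,240,180,240],[],17,4,false⟩) (RTr.leaf ⟨false,180,[150,240,90,150,240,120,150,180,30,90,150,30,30,30,150],[],22,14,false⟩)) (RTr.node (RTr.leaf ⟨false,30,[30,30,90,210,150,120,120,210,60,180,120,150,120,180],[],23,2,false⟩) (RTr.leaf ⟨false,150,[120,120,150,210,150,210,180,240,150,240,210,150,120,210],[],21,0,true⟩)))) (RTr.node (RTr.node (RTr.node (RTr.node (RTr.leaf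 ⟨false,180,[240,90,150,240,120,180,90,90,180,120,120],[],14,8,false⟩) (RTr.leaf ⟨false,240,[210,240,210,240,210,240,210,240,210,240,210],[],15,3,false⟩)) (RTr.leaf ⟨false,60,[90,210,150,210,240,210,150,120,60,90,210,150,240,150,120],[],25,15,true⟩)) (RTr.node (RTr.leaf ⟨false,90,[60,150,120,30,90,180,90,150,240,90,150,240,30,90,150],[],26,4,false⟩) (RTr.leaf ⟨false,30,[150,120,120,30,210,180,120,150,120,180,60,210,90,30],[],28,0,false⟩))) (RTr.node (RTr.node (RTr.leaf ⟨false,30,[30,120,60,90,30,30,30],[],12,1,false⟩) (RTr.leaf ⟨false,60,[180,90,150,90,180,30,210,90,90,150,210,120,60,60],[],23,12,true⟩)) (RTr.node (RTr.leaf ⟨false,30,[30,150,30,90,150,30,30,30,150,30,90,150,30],[],24,1,false⟩) (RTr.leaf ⟨false,240,[180,210,240,30,150,180,210,240,60,180,60,60,180,150,120,180,150,120,210,180,30,180,150,60,120,210,180,120,210,180,240,210,180,240,180,210,150],[],31,18,true⟩))))) (RTr.node (RTr.node (RTr.node (RTr.node (RTr.node (RTr.leaf ⟨false,180,[90,150,240,120,150,90,240,150,120,180,90,150,120],[],19,6,false⟩)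 (RTr.leaf ⟨false,180,[210,90,30,150,180,60,180,210,90,150,180,90,150,180,30,30,180,30,240,210,180,150,60,240,210,180,240,150,210,180,240,180,210,240,180,210,90],[],31,8,false⟩)) (RTr.leaf ⟨false,120,[60,90,150,30,120,150,120,60,240,150,120,240,150,120,180],[],26,0,true⟩)) (RTr.node (RTr.leaf ⟨false,150,[30,90,150,120,60,150,210,60,90,150,120,30,210],[],16,12,false⟩) (RTr.leaf ⟨false,180,[210,240,30,120,150,120,60,150,180,90,30,150,30,150,240,210,240,180,240,90,150,210],[],29,14,true⟩))) (RTr.node (RTr.node (RTr.leaf ⟨false,150,[210,120,60,60,60,180,90,150,90,180,30,210,90,90],[],23,2,true⟩) (RTr.leaf ⟨false,120,[60,90,210,150,240,150,120,60,90,210,150,210,240,210,150],[],25,7,true⟩)) (RTr.node (RTr.leaf ⟨false,210,[150,120,210,150,120,120,150,210,150,210,180,240,150,240],[],21,4,true⟩) (RTr.leaf ⟨false,240,[30,120,150,120,60,150,180,90,30,150,30,150,240,210,240,180,240,90,150,210,180,210],[],29,12,true⟩)))) (RTr.node (RTr.node (RTr.node (RTr.leaf ⟨false,240,[60,240,30],[],7,3,false⟩)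 (RTr.leaf ⟨false,150,[180,150,90,180,30,210,90,150,210,60,90,90,180,90,180],[],30,9,true⟩)) (RTr.node (RTr.leaf ⟨false,210,[60,90,90,180,90,180,150,180,150,90,180,30,210,90,150],[],30,0,true⟩) (RTr.leaf ⟨false,210,[30,180,90,150,90,180,210,60,90,90,150,60,60,120],[],28,11,true⟩))) (RTr.node (RTr.node (RTr.leaf ⟨false,120,[150,180,150,180,120,180,120,120,30,210,150,120,210,60,180],[],30,9,false⟩) (RTr.leaf ⟨false,240,[150,180,210,90,150,120,120,150,90,90,90,210,180,150,240,150],[],27,11,false⟩)) (RTr.node (RTr.leaf ⟨false,30,[30,150,30,90,150,30,30,30,150,30,90,150,30],[],24,8,false⟩) (RTr.leaf ⟨false,180,[30,180,150,60,120,210,180,120,210,180,240,210,180,240,180,210,150,240,180,210,240,30,150,180,210,240,60,180,60,60,180,150,120,180,150,120,210],[],31,36,true⟩))))))))))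

noncomputable def D : TCD where
  N := nat_lit 98280
  E := (Tr.node (Tr.node (Tr.node (Tr.node (Tr.node e0 e16) (Tr.node e8 e24)) (Tr.node (Tr.node e4 e20) (Tr.node e12 e28))) (Tr.node (Tr.node (Tr.node e2 e18) (Tr.node e10 e26)) (Tr.node (Tr.node e6 e22) (Tr.node e14 e30)))) (Tr.node (Tr.node (Tr.node (Tr.node e1 e17) (Tr.node e9 e25)) (Tr.node (Tr.node e5 e21) (Tr.node e13 e29))) (Tr.node (Tr.node (Tr.node e3 e19) (Tr.node e11 e27)) (Tr.node (Tr.node e7 e23) (Tr.node e15 e31)))))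
  lb := nat_lit 4
  lm := nat_lit 15
  rw := nat_lit 270
  em := nat_lit 1073741823
  vm := nat_lit 262143
  fl := nat_lit 131072
  wv := nat_lit 18
  inf := nat_lit 1073479680
  J := (Tr.node (Tr.node (Tr.node (Tr.node (Tr.node j0 j16) (Tr.node j8 j24)) (Tr.node (Tr.node j4 j20) (Tr.node j12 j28))) (Tr.node (Tr.node (Tr.node j2 j18) (Tr.node j10 j26)) (Tr.node (Tr.node j6 j22) (Tr.node j14 j30)))) (Tr.node (Tr.node (Tr.node (Tr.node j1 j17) (Tr.node j9 j25)) (Tr.node (Tr.node j5 j21) (Tr.node j13 j29))) (Tr.node (Tr.node (Tr.node j3 j19) (Tr.node j11 j27)) (Tr.node (Tr.node j7 j23) (Tr.node j15 j31)))))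
  jw := nat_lit 25
  jm := nat_lit 33554431
  jr := nat_lit 250
  pk := nat_lit 270
  nr := nat_lit 575
  R := R
  cols := [(nat_lit 30,nat_lit 50),(nat_lit 60,nat_lit 75),(nat_lit 90,nat_lit 100),(nat_lit 120,nat_lit 125),(nat_lit 150,nat_lit 150),(nat_lit 180,nat_lit 175),(nat_lit 210,nat_lit 200),(nat_lit 240,nat_lit 225)]
  j0 := nat_lit 25
  big := nat_lit 1000000000

def cl : List (Nat × Nat) := [(30,0),(60,1),(90,2),(120,3),(150,4),(180,6),(210,8),(240,10)]
def invs : List Nat := [2,3,4,5]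
def rels : List (List Nat) := [[0,1],[2,3],[4,5],[6,7],[8,9],[10,11],[0,8,0,8],[0,10,1,10],[2,8,3,8],[2,10,3,10],[0,0,3,0,2],[2,4,2,4,2,4],[0,0,0,0,0,2,1,3],[2,6,3,6,2,6,3,6],[2,2,6,3,10,4,2,10,6,3,3,6],[8,10,8,10,8,10,8,10,8,10,8,10],[0,3,4,2,1,8,4,1,3,4,2,0,4,8],[4,10,6,10,4,10,6,10],[4,8,4,8,4,8,4,8],[2,4,3,10,4,2,6,3,4,2,6,3,4,10],[2,4,10,6,8,6,10,4,3,10,4,8,4,10],[2,2,4,8,4,8,6,10,4,10,8,4,2,8,4],[0,0,0,4,2,0,6,4,3,10,4,2,10,4,6,4],[0,0,0,6,3,4,3,6,1,8,3,3,4,8,2],[0,0,0,4,2,0,4,0,0,0,4,2,0,4],[0,3,8,4,8,10,8,4,2,0,3,8,4,10,4,2],[0,3,4,1,2,4,2,0,10,4,2,10,4,2,6,2],[2,2,2,4,3,3,4,2,8,6,4,10,4,10,4,6,8],[0,0,2,8,1,6,3,4,3,6,8,0,3,3,4],[10,8,10,6,10,3,4,8,6,8,10,1,2,4,2,0,4,6,3,1,4,1,4],[0,3,3,6,3,6,4,6,4,3,6,1,8,3,4,8],[8,6,1,6,4,0,2,8,6,2,8,6,10,8,6,10,6,8,4,10,6,8,10,1,4,6,8,10,0,6,0,0,6,4,2,6,4,2]]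
def subs : List (List Nat) := [[0],[2],[4],[6],[8]]
def W0 : List (List Nat) := [[0],[2],[4],[6],[8],[10]]


end CfsgH7.Co1mT
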