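import Cfsg.Agent.H7.TCMain
import Cfsg.Agent.H7.Mu.Co2mTD0
import Cfsg.Agent.H7.Mu.Co2mTD1

set_option autoImplicit false
set_option maxRecDepth 100000

namespace CfsgH7.Co2mT

noncomputable def R : RTr := (RTr.node (RTr.node (RTr.node (RTr.node (RTr.node (RTr.node (RTr.node (RTr.node (RTr.node (RTr.leaf ⟨true,29,[],[],0,0,false⟩) (RTr.leaf ⟨false,116,[116,58,174,116,145,116,174,203,58,87,29,145,203],[],12,11,false⟩)) (RTr.node (RTr.leaf ⟨false,58,[116,174,58,145,116,29,174,145,203,145,203,174,29,174,58,145],[],22,16,true⟩) (RTr.leaf ⟨false,145,[174,203,29,174,58,116,145,29,87,145,29,116,174,145,116,203,174,58,203,145,58,58],[],23,15,true⟩))) (RTr.node (RTr.node (RTr.leaf ⟨false,203,[116,203,87],[],6,3,false⟩) (RTr.leaf ⟨false,29,[174,203,87,145,174,87,58,145,116,58,145,87,29,174,58,203,174,145,29,29,145,203],[],23,2,false⟩)) (RTr.leaf ⟨false,87,[174,145,29,145,58,145,87,29,145,29,174,87,145],[],18,8,false⟩))) (RTr.node (RTr.node (RTr.node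 (RTr.leaf ⟨false,145,[87,145,87,145,87],[],9,1,false⟩) (RTr.leaf ⟨false,116,[145,174,116,116,145,174,145,174,116,116,145,87,174],[],13,8,true⟩)) (RTr.leaf ⟨false,116,[174,58,145,58,116,145,29,145,58,145,174,116,145],[],18,3,true⟩)) (RTr.node (RTr.node (RTr.leaf ⟨false,174,[116,174,87,174,116,174,87],[],11,3,false⟩) (RTr.leaf ⟨false,29,[87,87,29,174,145,116,116,145,174,58,145,116,29,145],[],19,3,false⟩)) (RTr.leaf ⟨false,203,[58,87,29,145,203,116,116,58,174,116,145,116,174],[],12,3,false⟩)))) (RTr.node (RTr.node (RTr.node (RTr.node (RTr.leaf ⟨false,58,[116,58,58,87],[],7,1,true⟩) (RTr.leaf ⟨false,203,[145,116,29,116,203,174,58,116,29,145,29,174,116,145,29],[],16,6,true⟩)) (RTr.leaf ⟨false,116,[29,203,174,87,145,87,174,29,87,87,203,145,58],[],12,12,true⟩)) (RTr.node (RTr.node (RTr.leaf ⟨false,29,[29,116,58,87,29,29,29],[],10,1,false⟩) (RTr.leaf ⟨false,29,[174,145,203,145,203,174,29,174,58,145,58,116,174,58,145,116],[],22,10,true⟩)) (RTr.leaf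 ⟨false,203,[87,58,87,145,203,58,145,87,174,58,145,58,87,29,174],[],16,14,false⟩))) (RTr.node (RTr.node (RTr.node (RTr.leaf ⟨false,145,[116,145,116,145,116],[],9,4,true⟩) (RTr.leaf ⟨false,203,[174,87,145,174,203,145,203,174,145,116,174,203,145],[],15,2,false⟩)) (RTr.leaf ⟨false,116,[58,174,116,145,116,174,203,58,87,29,145,203,116],[],12,10,false⟩)) (RTr.node (RTr.node (RTr.leaf ⟨false,58,[145,203,145,29,145,116,116,145,29,203,145,87,87,145],[],20,9,false⟩) (RTr.leaf ⟨false,87,[203,145,58,116,29,203,174,87,145,87,174,29,87],[],12,2,true⟩)) (RTr.leaf ⟨false,203,[145,87,87,145,58,145,203,145,29,145,116,116,145,29],[],20,14,false⟩))))) (RTr.node (RTr.node (RTr.node (RTr.node (RTr.node (RTr.leaf ⟨false,116,[203,87,203],[],6,2,false⟩) (RTr.leaf ⟨false,116,[203,174,58,116,29,145,29,174,116,145,29,203,145,116,29],[],16,2,true⟩)) (RTr.node (RTr.leaf ⟨false,145,[29,174,87,145,87,174,145,29,145,58,145,87,29],[],18,13,false⟩) (RTr.leaf ⟨false,58,[145,203,145,29,145,116,116,145,203,58,145,87,87,145],[],20,9,true⟩)))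 (RTr.node (RTr.node (RTr.leaf ⟨false,29,[174,58,174,203,145,203,145,174,58,87,145,29,174,87,29,145],[],22,15,false⟩) (RTr.leaf ⟨false,29,[145,29,174,58,174,203,145,203,145,174,58,87,145,29,174,87],[],22,0,false⟩)) (RTr.leaf ⟨false,174,[203,87,145,174,87,58,145,116,58,145,87,29,174,58,203,174,145,29,29,145,203,29],[],23,1,false⟩))) (RTr.node (RTr.node (RTr.node (RTr.leaf ⟨false,116,[29,87,58,58,58,58,58],[],10,2,true⟩) (RTr.leaf ⟨false,203,[174,58,203,145,58,58,145,174,203,29,174,58,116,145,29,87,145,29,116,174,145,116],[],23,22,true⟩)) (RTr.leaf ⟨false,174,[116,145,29,203,145,116,29,116,203,174,58,116,29,145,29],[],16,10,true⟩)) (RTr.node (RTr.node (RTr.leaf ⟨false,145,[58,116,145,29,145,58,145,174,116,145,116,174,58],[],18,0,true⟩) (RTr.leaf ⟨false,145,[87,29,174,58,203,174,145,29,29,145,203,29,174,203,87,145,174,87,58,145,116,58],[],23,14,false⟩)) (RTr.leaf ⟨false,174,[145,29,29,145,203,29,174,203,87,145,174,87,58,145,116,58,145,87,29,174,58,203],[],23,8,false⟩))))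 (RTr.node (RTr.node (RTr.node (RTr.node (RTr.leaf ⟨false,87,[174,116,174,87,174,116,174],[],11,0,false⟩) (RTr.leaf ⟨false,174,[116,145,174,116,116,145,174,145,174,116,116,145,87],[],13,9,true⟩)) (RTr.leaf ⟨false,58,[58,58,145,116,58,145,58,58,58,145,116,58,145],[],21,13,true⟩)) (RTr.node (RTr.node (RTr.leaf ⟨false,203,[58,203,58],[],5,2,true⟩) (RTr.leaf ⟨false,116,[58,145,58,58,58,145,116,58,145,58,58,58,145],[],21,2,true⟩)) (RTr.leaf ⟨false,29,[174,58,116,145,29,87,145,29,116,174,145,116,203,174,58,203,145,58,58,145,174,203],[],23,12,true⟩))) (RTr.node (RTr.node (RTr.node (RTr.leaf ⟨false,116,[116,116,116,116],[],8,2,true⟩) (RTr.leaf ⟨false,116,[145,29,87,145,29,116,174,145,116,203,174,58,203,145,58,58,145,174,203,29,174,58],[],23,9,true⟩)) (RTr.leaf ⟨false,174,[58,145,58,116,145,29,145,58,145,174,116,145,116],[],18,2,true⟩)) (RTr.node (RTr.node (RTr.leaf ⟨false,58,[116,29,87,58,58,58,58],[],10,3,true⟩) (RTr.leaf ⟨false,29,[145,116,116,145,203,58,145,87,87,145,58,145,203,145],[],20,5,true⟩))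 (RTr.leaf ⟨false,174,[58,116,145,29,87,145,29,116,174,145,116,203,174,58,203,145,58,58,145,174,203,29],[],23,11,true⟩)))))) (RTr.node (RTr.node (RTr.node (RTr.node (RTr.node (RTr.node (RTr.leaf ⟨true,145,[],[],2,0,false⟩) (RTr.leaf ⟨false,145,[174,145,174,145,174,145,174,145,174],[],14,6,false⟩)) (RTr.node (RTr.leaf ⟨false,29,[203,29,203],[],5,0,false⟩) (RTr.leaf ⟨false,174,[145,116,203,174,58,203,145,58,58,145,174,203,29,174,58,116,145,29,87,145,29,116],[],23,2,true⟩))) (RTr.node (RTr.node (RTr.leaf ⟨false,203,[174,145,116,174,203,145,203,174,87,145,174,203,145],[],15,9,false⟩) (RTr.leaf ⟨false,116,[58,145,58,87,145,29,174,145,87,87,145,174,58,116],[],19,12,true⟩)) (RTr.leaf ⟨false,116,[145,116,174,203,58,87,29,145,203,116,116,58,174],[],12,7,false⟩))) (RTr.node (RTr.node (RTr.node (RTr.leaf ⟨false,29,[29,87,29,116],[],7,1,false⟩) (RTr.leaf ⟨false,203,[145,58,116,29,203,174,87,145,87,174,29,87,87],[],12,1,true⟩)) (RTr.leaf ⟨false,116,[145,29,145,58,145,174,116,145,116,174,58,145,58],[],18,12,true⟩))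 (RTr.node (RTr.node (RTr.leaf ⟨false,145,[174,58,145,116,29,145,29,87,87,29,174,145,116,116],[],19,10,false⟩) (RTr.leaf ⟨false,58,[203,145,58,58,145,174,203,29,174,58,116,145,29,87,145,29,116,174,145,116,203,174],[],23,20,true⟩)) (RTr.leaf ⟨false,145,[87,29,145,29,174,87,145,87,174,145,29,145,58],[],18,2,false⟩)))) (RTr.node (RTr.node (RTr.node (RTr.node (RTr.leaf ⟨false,116,[58,58,87,58],[],7,0,true⟩) (RTr.leaf ⟨false,29,[29,29,145,29,87,145,29,29,29,145,29,87,145],[],21,2,false⟩)) (RTr.leaf ⟨false,203,[58,145,87,87,145,58,145,203,145,29,145,116,116,145],[],20,0,true⟩)) (RTr.node (RTr.node (RTr.leaf ⟨false,116,[58,87,29,29,29,29,29],[],10,7,false⟩) (RTr.leaf ⟨false,116,[116,145,174,145,174,116,116,145,87,174,116,145,174],[],13,5,true⟩)) (RTr.leaf ⟨false,145,[87,87,145,58,145,203,145,29,145,116,116,145,203,58],[],20,13,true⟩))) (RTr.node (RTr.node (RTr.node (RTr.leaf ⟨false,174,[116,174,87,174,116,174,87],[],11,7,false⟩) (RTr.leaf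 ⟨false,145,[29,174,116,145,29,203,145,116,29,116,203,174,58,116,29],[],16,12,true⟩)) (RTr.leaf ⟨false,174,[203,87,58,87,145,203,58,145,87,174,58,145,58,87,29],[],16,15,false⟩)) (RTr.node (RTr.node (RTr.leaf ⟨false,58,[58,145,116,58,145,58,58,58,145,116,58,145,58],[],21,12,true⟩) (RTr.leaf ⟨false,29,[87,145,29,116,174,145,116,203,174,58,203,145,58,58,145,174,203,29,174,58,116,145],[],23,7,true⟩)) (RTr.leaf ⟨false,29,[29,145,29,87,145,29,29,29,145,29,87,145,29],[],21,8,false⟩))))) (RTr.node (RTr.node (RTr.node (RTr.node (RTr.node (RTr.leaf ⟨false,29,[58],[],0,0,false⟩) (RTr.leaf ⟨false,87,[174,145,174,145,87,87,174,145,87,174,116,145,87],[],13,0,false⟩)) (RTr.leaf ⟨false,87,[87,145,58,145,203,145,29,145,116,116,145,203,58,145],[],20,12,true⟩)) (RTr.node (RTr.node (RTr.leaf ⟨false,145,[203,58,145,87,174,58,145,58,87,29,174,203,87,58,87],[],16,10,false⟩) (RTr.leaf ⟨false,174,[87,29,145,29,174,58,174,203,145,203,145,174,58,87,145,29],[],22,2,false⟩))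 (RTr.leaf ⟨false,58,[145,58,116,174,58,145,116,29,174,145,203,145,203,174,29,174],[],22,1,true⟩))) (RTr.node (RTr.node (RTr.node (RTr.leaf ⟨false,116,[116,116,116,116],[],8,0,true⟩) (RTr.leaf ⟨false,29,[174,58,145,58,116,174,58,145,116,29,174,145,203,145,203,174],[],22,3,true⟩)) (RTr.leaf ⟨false,87,[174,116,145,87,87,174,145,174,145,87,87,174,145],[],13,5,false⟩)) (RTr.node (RTr.node (RTr.leaf ⟨false,145,[203,174,29,174,58,145,58,116,174,58,145,116,29,174,145,203],[],22,6,true⟩) (RTr.leaf ⟨false,174,[145,174,145,174,145,174,145,174,145],[],14,3,false⟩)) (RTr.leaf ⟨false,174,[145,174,145,87,87,174,145,87,174,116,145,87,87],[],13,13,false⟩)))) (RTr.node (RTr.node (RTr.node (RTr.node (RTr.leaf ⟨false,58,[87,29,29,29,29,29,116],[],10,6,false⟩) (RTr.leaf ⟨false,145,[58,116,174,58,145,116,29,174,145,203,145,203,174,29,174,58],[],22,0,true⟩)) (RTr.leaf ⟨false,145,[58,145,203,145,29,145,116,116,145,29,203,145,87,87],[],20,10,false⟩)) (RTr.node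 (RTr.node (RTr.leaf ⟨false,116,[116,145,29,203,145,87,87,145,58,145,203,145,29,145],[],20,3,false⟩) (RTr.leaf ⟨false,29,[174,87,29,145,29,174,58,174,203,145,203,145,174,58,87,145],[],22,3,false⟩)) (RTr.leaf ⟨false,58,[145,116,29,145,29,87,87,29,174,145,116,116,145,174],[],19,8,false⟩))) (RTr.node (RTr.node (RTr.node (RTr.leaf ⟨false,87,[87,87,87,87],[],8,2,false⟩) (RTr.leaf ⟨false,58,[116,116,58,145,58,87,145,29,174,145,87,87,145,174],[],19,14,true⟩)) (RTr.leaf ⟨false,87,[58,87,145,203,58,145,87,174,58,145,58,87,29,174,203],[],16,13,false⟩)) (RTr.node (RTr.node (RTr.leaf ⟨false,145,[29,87,145,29,29,29,145,29,87,145,29,29,29],[],21,6,false⟩) (RTr.leaf ⟨false,145,[174,87,58,145,116,58,145,87,29,174,58,203,174,145,29,29,145,203,29,174,203,87],[],23,21,false⟩)) (RTr.leaf ⟨false,87,[145,29,174,145,87,87,145,174,58,116,116,58,145,58],[],19,8,true⟩))))))) (RTr.node (RTr.node (RTr.node (RTr.node (RTr.node (RTr.node (RTr.node (RTr.leaf ⟨true,87,[],[],1,0,false⟩)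 (RTr.leaf ⟨false,145,[29,145,58,145,174,116,145,116,174,58,145,58,116],[],18,11,true⟩)) (RTr.node (RTr.leaf ⟨false,203,[145,203,145,203,145,203,145],[],17,3,false⟩) (RTr.leaf ⟨false,145,[58,58,145,174,203,29,174,58,116,145,29,87,145,29,116,174,145,116,203,174,58,203],[],23,18,true⟩))) (RTr.node (RTr.node (RTr.leaf ⟨false,145,[116,145,116,145,116],[],9,2,true⟩) (RTr.leaf ⟨false,145,[29,29,29,145,29,87,145,29,29,29,145,29,87],[],21,10,false⟩)) (RTr.leaf ⟨false,145,[29,145,58,145,87,29,145,29,174,87,145,87,174],[],18,6,false⟩))) (RTr.node (RTr.node (RTr.node (RTr.leaf ⟨false,174,[87,174,116,174,87,174,116],[],11,5,false⟩) (RTr.leaf ⟨false,145,[116,174,203,145,203,174,87,145,174,203,145,203,174],[],15,7,false⟩)) (RTr.leaf ⟨false,58,[87,29,145,203,116,116,58,174,116,145,116,174,203],[],12,2,false⟩)) (RTr.node (RTr.node (RTr.leaf ⟨false,203,[145,203,145,203,145,203,145],[],17,7,false⟩) (RTr.leaf ⟨false,174,[145,203,145,203,174,29,174,58,145,58,116,174,58,145,116,29],[],22,9,true⟩))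 (RTr.leaf ⟨false,174,[203,145,203,145,174,58,87,145,29,174,87,29,145,29,174,58],[],22,12,false⟩)))) (RTr.node (RTr.node (RTr.node (RTr.node (RTr.leaf ⟨false,58,[203,58,203],[],5,3,true⟩) (RTr.leaf ⟨false,174,[116,145,87,87,174,145,174,145,87,87,174,145,87],[],13,4,false⟩)) (RTr.leaf ⟨false,29,[145,29,87,145,29,29,29,145,29,87,145,29,29],[],21,7,false⟩)) (RTr.node (RTr.node (RTr.leaf ⟨false,29,[87,58,58,58,58,58,116],[],10,1,true⟩) (RTr.leaf ⟨false,29,[203,174,87,145,87,174,29,87,87,203,145,58,116],[],12,11,true⟩)) (RTr.leaf ⟨false,203,[145,203,174,145,116,174,203,145,203,174,87,145,174],[],15,11,false⟩))) (RTr.node (RTr.node (RTr.node (RTr.leaf ⟨false,116,[145,116,145,116,145],[],9,5,true⟩) (RTr.leaf ⟨false,203,[145,203,174,87,145,174,203,145,203,174,145,116,174],[],15,4,false⟩)) (RTr.leaf ⟨false,87,[87,145,174,58,116,116,58,145,58,87,145,29,174,145],[],19,3,true⟩)) (RTr.node (RTr.node (RTr.leaf ⟨false,116,[58,145,58,58,58,145,116,58,145,58,58,58,145],[],21,9,true⟩)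 (RTr.leaf ⟨false,58,[145,174,203,29,174,58,116,145,29,87,145,29,116,174,145,116,203,174,58,203,145,58],[],23,16,true⟩)) (RTr.leaf ⟨false,58,[174,203,145,203,145,174,58,87,145,29,174,87,29,145,29,174],[],22,13,false⟩))))) (RTr.node (RTr.node (RTr.node (RTr.node (RTr.node (RTr.leaf ⟨false,145,[203,116,116,58,174,116,145,116,174,203,58,87,29],[],12,13,false⟩) (RTr.leaf ⟨false,87,[58,145,116,58,145,87,29,174,58,203,174,145,29,29,145,203,29,174,203,87,145,174],[],23,19,false⟩)) (RTr.leaf ⟨false,58,[145,87,87,145,58,145,203,145,29,145,116,116,145,203],[],20,14,true⟩)) (RTr.node (RTr.node (RTr.leaf ⟨false,145,[116,29,145,29,87,87,29,174,145,116,116,145,174,58],[],19,7,false⟩) (RTr.leaf ⟨false,145,[174,58,87,145,29,174,87,29,145,29,174,58,174,203,145,203],[],22,8,false⟩)) (RTr.leaf ⟨false,174,[58,116,116,58,145,58,87,145,29,174,145,87,87,145],[],19,0,true⟩))) (RTr.node (RTr.node (RTr.node (RTr.leaf ⟨false,29,[116,29,29,87],[],7,3,false⟩) (RTr.leaf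 ⟨false,145,[174,58,116,116,58,145,58,87,145,29,174,145,87,87],[],19,1,true⟩)) (RTr.leaf ⟨false,145,[203,145,29,145,116,116,145,203,58,145,87,87,145,58],[],20,8,true⟩)) (RTr.node (RTr.node (RTr.leaf ⟨false,145,[116,116,145,174,58,145,116,29,145,29,87,87,29,174],[],19,13,false⟩) (RTr.leaf ⟨false,116,[174,145,116,203,174,58,203,145,58,58,145,174,203,29,174,58,116,145,29,87,145,29],[],23,3,true⟩)) (RTr.leaf ⟨false,145,[87,174,116,145,87,87,174,145,174,145,87,87,174],[],13,6,false⟩)))) (RTr.node (RTr.node (RTr.node (RTr.node (RTr.leaf ⟨false,58,[58,87,58,116],[],7,4,true⟩) (RTr.leaf ⟨false,174,[203,145,203,174,87,145,174,203,145,203,174,145,116],[],15,5,false⟩)) (RTr.leaf ⟨false,145,[203,145,203,145,203,145,203],[],17,4,false⟩)) (RTr.node (RTr.node (RTr.leaf ⟨false,145,[116,116,145,29,203,145,87,87,145,58,145,203,145,29],[],20,4,false⟩) (RTr.leaf ⟨false,87,[29,145,29,174,87,145,87,174,145,29,145,58,145],[],18,1,false⟩)) (RTr.leaf ⟨false,203,[145,29,145,116,116,145,203,58,145,87,87,145,58,145],[],20,7,true⟩)))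 (RTr.node (RTr.node (RTr.node (RTr.leaf ⟨false,145,[174,145,174,145,174,145,174,145,174],[],14,4,false⟩) (RTr.leaf ⟨false,116,[116,58,145,58,87,145,29,174,145,87,87,145,174,58],[],19,13,true⟩)) (RTr.leaf ⟨false,174,[87,145,87,174,29,87,87,203,145,58,116,29,203],[],12,9,true⟩)) (RTr.node (RTr.node (RTr.leaf ⟨false,87,[145,87,145,87,145],[],9,2,false⟩) (RTr.leaf ⟨false,145,[29,29,145,203,29,174,203,87,145,174,87,58,145,116,58,145,87,29,174,58,203,174],[],23,7,false⟩)) (RTr.leaf ⟨false,174,[145,174,145,174,145,174,145,174,145],[],14,7,false⟩)))))) (RTr.node (RTr.node (RTr.node (RTr.node (RTr.node (RTr.node (RTr.leaf ⟨false,203,[203],[],4,0,false⟩) (RTr.leaf ⟨false,145,[29,87,87,29,174,145,116,116,145,174,58,145,116,29],[],19,4,false⟩)) (RTr.node (RTr.leaf ⟨false,174,[145,87,87,174,145,87,174,116,145,87,87,174,145],[],13,11,false⟩) (RTr.leaf ⟨false,87,[145,29,116,174,145,116,203,174,58,203,145,58,58,145,174,203,29,174,58,116,145,29],[],23,6,true⟩)))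 (RTr.node (RTr.node (RTr.leaf ⟨false,174,[58,145,116,29,174,145,203,145,203,174,29,174,58,145,58,116],[],22,14,true⟩) (RTr.leaf ⟨false,87,[145,29,174,87,29,145,29,174,58,174,203,145,203,145,174,58],[],22,5,false⟩)) (RTr.leaf ⟨false,87,[174,58,145,58,87,29,174,203,87,58,87,145,203,58,145],[],16,6,false⟩))) (RTr.node (RTr.node (RTr.node (RTr.leaf ⟨false,87,[58,58,58,58,58,116,29],[],10,0,true⟩) (RTr.leaf ⟨false,87,[87,174,145,174,145,87,87,174,145,87,174,116,145],[],13,1,false⟩)) (RTr.leaf ⟨false,87,[87,145,58,145,203,145,29,145,116,116,145,29,203,145],[],20,12,false⟩)) (RTr.node (RTr.node (RTr.leaf ⟨false,145,[87,174,29,87,87,203,145,58,116,29,203,174,87],[],12,7,true⟩) (RTr.leaf ⟨false,87,[29,145,203,116,116,58,174,116,145,116,174,203,58],[],12,1,false⟩)) (RTr.leaf ⟨false,203,[58,145,87,174,58,145,58,87,29,174,203,87,58,87,145],[],16,9,false⟩)))) (RTr.node (RTr.node (RTr.node (RTr.node (RTr.leaf ⟨false,58,[87,58,116,58],[],7,3,true⟩)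 (RTr.leaf ⟨false,145,[174,203,145,203,174,145,116,174,203,145,203,174,87],[],15,13,false⟩)) (RTr.leaf ⟨false,29,[145,116,116,145,29,203,145,87,87,145,58,145,203,145],[],20,5,false⟩)) (RTr.node (RTr.node (RTr.leaf ⟨false,145,[203,145,203,145,203,145,203],[],17,0,false⟩) (RTr.leaf ⟨false,58,[145,116,29,174,145,203,145,203,174,29,174,58,145,58,116,174],[],22,13,true⟩)) (RTr.leaf ⟨false,174,[116,145,116,174,58,145,58,116,145,29,145,58,145],[],18,6,true⟩))) (RTr.node (RTr.node (RTr.node (RTr.leaf ⟨false,87,[145,87,145,87,145],[],9,0,false⟩) (RTr.leaf ⟨false,87,[29,145,29,174,58,174,203,145,203,145,174,58,87,145,29,174],[],22,1,false⟩)) (RTr.leaf ⟨false,87,[145,87,174,29,87,87,203,145,58,116,29,203,174],[],12,8,true⟩)) (RTr.node (RTr.node (RTr.leaf ⟨false,145,[87,145,87,145,87],[],9,3,false⟩) (RTr.leaf ⟨false,145,[29,145,116,116,145,203,58,145,87,87,145,58,145,203],[],20,6,true⟩)) (RTr.leaf ⟨false,58,[87,145,203,58,145,87,174,58,145,58,87,29,174,203,87],[],16,12,false⟩)))))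 (RTr.node (RTr.node (RTr.node (RTr.node (RTr.node (RTr.leaf ⟨false,145,[145],[],2,0,false⟩) (RTr.leaf ⟨false,29,[174,116,145,29,203,145,116,29,116,203,174,58,116,29,145],[],16,11,true⟩)) (RTr.leaf ⟨false,145,[58,58,58,145,116,58,145,58,58,58,145,116,58],[],21,0,true⟩)) (RTr.node (RTr.node (RTr.leaf ⟨false,87,[29,116,29,29],[],7,4,false⟩) (RTr.leaf ⟨false,58,[116,145,29,87,145,29,116,174,145,116,203,174,58,203,145,58,58,145,174,203,29,174],[],23,10,true⟩)) (RTr.leaf ⟨false,116,[29,145,29,87,87,29,174,145,116,116,145,174,58,145],[],19,6,false⟩))) (RTr.node (RTr.node (RTr.node (RTr.leaf ⟨false,145,[87,145,87,145,87],[],9,5,false⟩) (RTr.leaf ⟨false,145,[174,145,174,145,174,145,174,145,174],[],14,8,false⟩)) (RTr.leaf ⟨false,145,[29,87,145,29,29,29,145,29,87,145,29,29,29],[],21,13,false⟩)) (RTr.node (RTr.node (RTr.leaf ⟨false,174,[87,174,116,174,87,174,116],[],11,1,false⟩) (RTr.leaf ⟨false,174,[203,29,174,58,116,145,29,87,145,29,116,174,145,116,203,174,58,203,145,58,58,145],[],23,14,true⟩))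 (RTr.leaf ⟨false,116,[174,203,145,203,174,87,145,174,203,145,203,174,145],[],15,6,false⟩)))) (RTr.node (RTr.node (RTr.node (RTr.node (RTr.leaf ⟨false,145,[174,145,174,116,116,145,87,174,116,145,174,116,116],[],13,3,true⟩) (RTr.leaf ⟨false,145,[174,116,116,145,87,174,116,145,174,116,116,145,174],[],13,1,true⟩)) (RTr.leaf ⟨false,29,[29,145,29,87,145,29,29,29,145,29,87,145,29],[],21,1,false⟩)) (RTr.node (RTr.node (RTr.leaf ⟨false,29,[174,87,145,87,174,145,29,145,58,145,87,29,145],[],18,12,false⟩) (RTr.leaf ⟨false,29,[87,145,29,29,29,145,29,87,145,29,29,29,145],[],21,5,false⟩)) (RTr.leaf ⟨false,174,[145,87,174,116,145,87,87,174,145,174,145,87,87],[],13,7,false⟩))) (RTr.node (RTr.node (RTr.node (RTr.leaf ⟨false,203,[145,203,145,203,145,203,145],[],17,5,false⟩) (RTr.leaf ⟨false,29,[203,145,116,29,116,203,174,58,116,29,145,29,174,116,145],[],16,7,true⟩)) (RTr.leaf ⟨false,87,[174,116,174,87,174,116,174],[],11,4,false⟩)) (RTr.node (RTr.node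 (RTr.leaf ⟨false,145,[87,87,145,174,58,116,116,58,145,58,87,145,29,174],[],19,4,true⟩) (RTr.leaf ⟨false,145,[116,203,174,58,203,145,58,58,145,174,203,29,174,58,116,145,29,87,145,29,116,174],[],23,1,true⟩)) (RTr.leaf ⟨false,174,[145,116,174,203,145,203,174,87,145,174,203,145,203],[],15,8,false⟩)))))))) (RTr.node (RTr.node (RTr.node (RTr.node (RTr.node (RTr.node (RTr.node (RTr.node (RTr.leaf ⟨false,58,[29],[],0,1,false⟩) (RTr.leaf ⟨false,203,[145,203,145,203,145,203,145],[],17,1,false⟩)) (RTr.node (RTr.leaf ⟨false,203,[58,203,58],[],5,0,true⟩) (RTr.leaf ⟨false,145,[29,203,145,116,29,116,203,174,58,116,29,145,29,174,116],[],16,8,true⟩))) (RTr.node (RTr.node (RTr.leaf ⟨false,203,[29,203,29],[],5,1,false⟩) (RTr.leaf ⟨false,58,[58,58,116,29,87,58,58],[],10,5,true⟩)) (RTr.leaf ⟨false,29,[87,87,203,145,58,116,29,203,174,87,145,87,174],[],12,4,true⟩))) (RTr.node (RTr.node (RTr.node (RTr.leaf ⟨false,174,[145,174,145,174,145,174,145,174,145],[],14,1,false⟩)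 (RTr.leaf ⟨false,116,[145,116,174,58,145,58,116,145,29,145,58,145,174],[],18,5,true⟩)) (RTr.leaf ⟨false,87,[145,29,29,29,145,29,87,145,29,29,29,145,29],[],21,4,false⟩)) (RTr.node (RTr.node (RTr.leaf ⟨false,87,[174,29,87,87,203,145,58,116,29,203,174,87,145],[],12,6,true⟩) (RTr.leaf ⟨false,58,[87,145,29,174,87,29,145,29,174,58,174,203,145,203,145,174],[],22,6,false⟩)) (RTr.leaf ⟨false,116,[145,87,87,174,145,174,145,87,87,174,145,87,174],[],13,3,false⟩)))) (RTr.node (RTr.node (RTr.node (RTr.node (RTr.leaf ⟨false,58,[87,29,174,203,87,58,87,145,203,58,145,87,174,58,145],[],16,2,false⟩) (RTr.leaf ⟨false,116,[29,145,29,174,116,145,29,203,145,116,29,116,203,174,58],[],16,14,true⟩)) (RTr.leaf ⟨false,29,[29,29,29,29,116,58,87],[],10,4,false⟩)) (RTr.node (RTr.node (RTr.leaf ⟨false,145,[116,58,145,58,58,58,145,116,58,145,58,58,58],[],21,10,true⟩) (RTr.leaf ⟨false,145,[29,116,174,145,116,203,174,58,203,145,58,58,145,174,203,29,174,58,116,145,29,87],[],23,5,true⟩))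 (RTr.leaf ⟨false,145,[29,203,145,87,87,145,58,145,203,145,29,145,116,116],[],20,1,false⟩))) (RTr.node (RTr.node (RTr.node (RTr.leaf ⟨false,29,[145,58,145,174,116,145,116,174,58,145,58,116,145],[],18,10,true⟩) (RTr.leaf ⟨false,174,[145,174,145,174,145,174,145,174,145],[],14,9,false⟩)) (RTr.leaf ⟨false,145,[203,58,145,87,87,145,58,145,203,145,29,145,116,116],[],20,1,true⟩)) (RTr.node (RTr.node (RTr.leaf ⟨false,58,[145,58,58,58,145,116,58,145,58,58,58,145,116],[],21,1,true⟩) (RTr.leaf ⟨false,29,[29,145,203,29,174,203,87,145,174,87,58,145,116,58,145,87,29,174,58,203,174,145],[],23,6,false⟩)) (RTr.leaf ⟨false,116,[145,203,58,145,87,87,145,58,145,203,145,29,145,116],[],20,2,true⟩))))) (RTr.node (RTr.node (RTr.node (RTr.node (RTr.node (RTr.leaf ⟨false,87,[116],[],1,0,false⟩) (RTr.leaf ⟨false,116,[116,145,203,58,145,87,87,145,58,145,203,145,29,145],[],20,3,true⟩)) (RTr.leaf ⟨false,145,[203,145,203,145,203,145,203],[],17,2,false⟩)) (RTr.node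 (RTr.node (RTr.leaf ⟨false,145,[116,174,58,145,58,116,145,29,145,58,145,174,116],[],18,4,true⟩) (RTr.leaf ⟨false,58,[145,87,29,174,58,203,174,145,29,29,145,203,29,174,203,87,145,174,87,58,145,116],[],23,15,false⟩)) (RTr.leaf ⟨false,174,[58,203,145,58,58,145,174,203,29,174,58,116,145,29,87,145,29,116,174,145,116,203],[],23,21,true⟩))) (RTr.node (RTr.node (RTr.node (RTr.leaf ⟨false,58,[58,58,58,116,29,87,58],[],10,6,true⟩) (RTr.leaf ⟨false,29,[145,29,174,116,145,29,203,145,116,29,116,203,174,58,116],[],16,13,true⟩)) (RTr.leaf ⟨false,145,[29,29,29,145,29,87,145,29,29,29,145,29,87],[],21,3,false⟩)) (RTr.node (RTr.node (RTr.leaf ⟨false,145,[87,87,174,145,87,174,116,145,87,87,174,145,174],[],13,10,false⟩) (RTr.leaf ⟨false,58,[145,116,58,145,58,58,58,145,116,58,145,58,58],[],21,11,true⟩)) (RTr.leaf ⟨false,116,[174,87,174,116,174,87,174],[],11,2,false⟩)))) (RTr.node (RTr.node (RTr.node (RTr.node (RTr.leaf ⟨false,87,[203,116,203],[],6,0,false⟩)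 (RTr.leaf ⟨false,174,[116,116,145,174,145,174,116,116,145,87,174,116,145],[],13,6,true⟩)) (RTr.leaf ⟨false,145,[203,145,29,145,116,116,145,29,203,145,87,87,145,58],[],20,8,false⟩)) (RTr.node (RTr.node (RTr.leaf ⟨false,203,[29,203,29],[],5,3,false⟩) (RTr.leaf ⟨false,87,[145,29,29,29,145,29,87,145,29,29,29,145,29],[],21,11,false⟩)) (RTr.leaf ⟨false,87,[145,174,58,116,116,58,145,58,87,145,29,174,145,87],[],19,2,true⟩))) (RTr.node (RTr.node (RTr.node (RTr.leaf ⟨false,174,[116,116,145,87,174,116,145,174,116,116,145,174,145],[],13,0,true⟩) (RTr.leaf ⟨false,116,[174,58,145,116,29,174,145,203,145,203,174,29,174,58,145,58],[],22,15,true⟩)) (RTr.leaf ⟨false,174,[203,58,87,29,145,203,116,116,58,174,116,145,116],[],12,4,false⟩)) (RTr.node (RTr.node (RTr.leaf ⟨false,29,[116,203,174,58,116,29,145,29,174,116,145,29,203,145,116],[],16,3,true⟩) (RTr.leaf ⟨false,116,[145,29,203,145,116,29,116,203,174,58,116,29,145,29,174],[],16,9,true⟩)) (RTr.leaf ⟨false,203,[145,58,58,145,174,203,29,174,58,116,145,29,87,145,29,116,174,145,116,203,174,58],[],23,19,true⟩))))))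 (RTr.node (RTr.node (RTr.node (RTr.node (RTr.node (RTr.node (RTr.leaf ⟨true,174,[],[],3,0,false⟩) (RTr.leaf ⟨false,145,[174,116,116,145,174,145,174,116,116,145,87,174,116],[],13,7,true⟩)) (RTr.node (RTr.leaf ⟨false,87,[145,174,203,145,203,174,145,116,174,203,145,203,174],[],15,0,false⟩) (RTr.leaf ⟨false,29,[174,58,203,174,145,29,29,145,203,29,174,203,87,145,174,87,58,145,116,58,145,87],[],23,12,false⟩))) (RTr.node (RTr.node (RTr.leaf ⟨false,116,[145,116,145,116,145],[],9,3,true⟩) (RTr.leaf ⟨false,145,[116,29,174,145,203,145,203,174,29,174,58,145,58,116,174,58],[],22,12,true⟩)) (RTr.leaf ⟨false,174,[145,29,145,58,145,87,29,145,29,174,87,145,87],[],18,7,false⟩))) (RTr.node (RTr.node (RTr.node (RTr.leaf ⟨false,145,[203,174,87,145,174,203,145,203,174,145,116,174,203],[],15,3,false⟩) (RTr.leaf ⟨false,145,[203,145,174,58,87,145,29,174,87,29,145,29,174,58,174,203],[],22,10,false⟩)) (RTr.leaf ⟨false,145,[58,58,58,145,116,58,145,58,58,58,145,116,58],[],21,7,true⟩))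 (RTr.node (RTr.node (RTr.leaf ⟨false,145,[58,145,87,29,145,29,174,87,145,87,174,145,29],[],18,4,false⟩) (RTr.leaf ⟨false,203,[145,174,58,87,145,29,174,87,29,145,29,174,58,174,203,145],[],22,9,false⟩)) (RTr.leaf ⟨false,58,[145,58,116,145,29,145,58,145,174,116,145,116,174],[],18,1,true⟩)))) (RTr.node (RTr.node (RTr.node (RTr.node (RTr.leaf ⟨false,29,[87,29,116,29],[],7,0,false⟩) (RTr.leaf ⟨false,203,[174,87,145,87,174,29,87,87,203,145,58,116,29],[],12,10,true⟩)) (RTr.leaf ⟨false,29,[29,29,145,29,87,145,29,29,29,145,29,87,145],[],21,9,false⟩)) (RTr.node (RTr.node (RTr.leaf ⟨false,29,[116,58,87,29,29,29,29],[],10,0,false⟩) (RTr.leaf ⟨false,145,[87,174,58,145,58,87,29,174,203,87,58,87,145,203,58],[],16,7,false⟩)) (RTr.leaf ⟨false,174,[87,145,87,174,145,29,145,58,145,87,29,145,29],[],18,11,false⟩))) (RTr.node (RTr.node (RTr.node (RTr.leaf ⟨false,145,[203,145,203,145,203,145,203],[],17,6,false⟩) (RTr.leaf ⟨false,116,[116,145,87,174,116,145,174,116,116,145,174,145,174],[],13,13,true⟩))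 (RTr.leaf ⟨false,174,[116,145,116,174,203,58,87,29,145,203,116,116,58],[],12,8,false⟩)) (RTr.node (RTr.node (RTr.leaf ⟨false,145,[116,145,116,145,116],[],9,0,true⟩) (RTr.leaf ⟨false,58,[145,87,174,58,145,58,87,29,174,203,87,58,87,145,203],[],16,8,false⟩)) (RTr.leaf ⟨false,58,[174,116,145,116,174,203,58,87,29,145,203,116,116],[],12,9,false⟩))))) (RTr.node (RTr.node (RTr.node (RTr.node (RTr.node (RTr.leaf ⟨false,145,[116,174,203,58,87,29,145,203,116,116,58,174,116],[],12,6,false⟩) (RTr.leaf ⟨false,203,[29,174,203,87,145,174,87,58,145,116,58,145,87,29,174,58,203,174,145,29,29,145],[],23,3,false⟩)) (RTr.leaf ⟨false,87,[87,87,87,87],[],8,1,false⟩)) (RTr.node (RTr.node (RTr.leaf ⟨false,29,[29,29,116,58,87,29,29],[],10,2,false⟩) (RTr.leaf ⟨false,58,[58,58,145,116,58,145,58,58,58,145,116,58,145],[],21,6,true⟩)) (RTr.leaf ⟨false,58,[145,116,58,145,58,58,58,145,116,58,145,58,58],[],21,4,true⟩))) (RTr.node (RTr.node (RTr.node (RTr.leaf ⟨false,87,[58,116,58,58],[],7,2,true⟩)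 (RTr.leaf ⟨false,29,[145,29,87,87,29,174,145,116,116,145,174,58,145,116],[],19,5,false⟩)) (RTr.leaf ⟨false,58,[145,174,116,145,116,174,58,145,58,116,145,29,145],[],18,8,true⟩)) (RTr.node (RTr.node (RTr.leaf ⟨false,203,[174,29,174,58,145,58,116,174,58,145,116,29,174,145,203,145],[],22,5,true⟩) (RTr.leaf ⟨false,116,[29,116,203,174,58,116,29,145,29,174,116,145,29,203,145],[],16,4,true⟩)) (RTr.leaf ⟨false,145,[87,87,174,145,174,145,87,87,174,145,87,174,116],[],13,2,false⟩)))) (RTr.node (RTr.node (RTr.node (RTr.node (RTr.leaf ⟨false,58,[58,145,174,203,29,174,58,116,145,29,87,145,29,116,174,145,116,203,174,58,203,145],[],23,17,true⟩) (RTr.leaf ⟨false,174,[29,174,58,145,58,116,174,58,145,116,29,174,145,203,145,203],[],22,4,true⟩)) (RTr.leaf ⟨false,116,[145,29,203,145,87,87,145,58,145,203,145,29,145,116],[],20,2,false⟩)) (RTr.node (RTr.node (RTr.leaf ⟨false,58,[87,145,29,174,145,87,87,145,174,58,116,116,58,145],[],19,9,true⟩) (RTr.leaf ⟨false,116,[145,174,58,145,116,29,145,29,87,87,29,174,145,116],[],19,11,false⟩))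 (RTr.leaf ⟨false,145,[174,116,145,116,174,58,145,58,116,145,29,145,58],[],18,7,true⟩))) (RTr.node (RTr.node (RTr.node (RTr.leaf ⟨false,145,[58,116,29,203,174,87,145,87,174,29,87,87,203],[],12,0,true⟩) (RTr.leaf ⟨false,29,[116,174,145,116,203,174,58,203,145,58,58,145,174,203,29,174,58,116,145,29,87,145],[],23,4,true⟩)) (RTr.leaf ⟨false,174,[58,203,174,145,29,29,145,203,29,174,203,87,145,174,87,58,145,116,58,145,87,29],[],23,11,false⟩)) (RTr.node (RTr.node (RTr.leaf ⟨false,145,[87,87,145,58,145,203,145,29,145,116,116,145,29,203],[],20,13,false⟩) (RTr.leaf ⟨false,116,[203,174,58,203,145,58,58,145,174,203,29,174,58,116,145,29,87,145,29,116,174,145],[],23,0,true⟩)) (RTr.leaf ⟨false,203,[29,174,58,116,145,29,87,145,29,116,174,145,116,203,174,58,203,145,58,58,145,174],[],23,13,true⟩))))))) (RTr.node (RTr.node (RTr.node (RTr.node (RTr.node (RTr.node (RTr.node (RTr.leaf ⟨false,116,[87],[],1,1,false⟩) (RTr.leaf ⟨false,203,[174,58,116,29,145,29,174,116,145,29,203,145,116,29,116],[],16,1,true⟩))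 (RTr.node (RTr.leaf ⟨false,58,[145,116,58,145,87,29,174,58,203,174,145,29,29,145,203,29,174,203,87,145,174,87],[],23,18,false⟩) (RTr.leaf ⟨false,116,[58,145,87,29,174,58,203,174,145,29,29,145,203,29,174,203,87,145,174,87,58,145],[],23,16,false⟩))) (RTr.node (RTr.node (RTr.leaf ⟨false,203,[87,203,116],[],6,1,false⟩) (RTr.leaf ⟨false,174,[58,145,58,116,174,58,145,116,29,174,145,203,145,203,174,29],[],22,2,true⟩)) (RTr.leaf ⟨false,174,[58,116,29,145,29,174,116,145,29,203,145,116,29,116,203],[],16,0,true⟩))) (RTr.node (RTr.node (RTr.node (RTr.leaf ⟨false,145,[203,174,145,116,174,203,145,203,174,87,145,174,203],[],15,10,false⟩) (RTr.leaf ⟨false,116,[145,174,145,174,116,116,145,87,174,116,145,174,116],[],13,4,true⟩)) (RTr.leaf ⟨false,145,[29,174,145,87,87,145,174,58,116,116,58,145,58,87],[],19,7,true⟩)) (RTr.node (RTr.node (RTr.leaf ⟨false,58,[58,116,29,87,58,58,58],[],10,4,true⟩) (RTr.leaf ⟨false,87,[29,174,58,203,174,145,29,29,145,203,29,174,203,87,145,174,87,58,145,116,58,145],[],23,13,false⟩))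 (RTr.leaf ⟨false,203,[116,116,58,174,116,145,116,174,203,58,87,29,145],[],12,12,false⟩)))) (RTr.node (RTr.node (RTr.node (RTr.node (RTr.leaf ⟨false,116,[29,29,87,29],[],7,2,false⟩) (RTr.leaf ⟨false,87,[145,174,87,58,145,116,58,145,87,29,174,58,203,174,145,29,29,145,203,29,174,203],[],23,22,false⟩)) (RTr.leaf ⟨false,58,[145,58,58,58,145,116,58,145,58,58,58,145,116],[],21,8,true⟩)) (RTr.node (RTr.node (RTr.leaf ⟨false,29,[145,203,116,116,58,174,116,145,116,174,203,58,87],[],12,0,false⟩) (RTr.leaf ⟨false,145,[29,174,87,29,145,29,174,58,174,203,145,203,145,174,58,87],[],22,4,false⟩)) (RTr.leaf ⟨false,87,[87,29,174,145,116,116,145,174,58,145,116,29,145,29],[],19,2,false⟩))) (RTr.node (RTr.node (RTr.node (RTr.leaf ⟨false,145,[116,29,116,203,174,58,116,29,145,29,174,116,145,29,203],[],16,5,true⟩) (RTr.leaf ⟨false,87,[29,174,203,87,58,87,145,203,58,145,87,174,58,145,58],[],16,1,false⟩)) (RTr.leaf ⟨false,29,[203,145,87,87,145,58,145,203,145,29,145,116,116,145],[],20,0,false⟩))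 (RTr.node (RTr.node (RTr.leaf ⟨false,87,[87,87,87,87],[],8,0,false⟩) (RTr.leaf ⟨false,87,[145,203,58,145,87,174,58,145,58,87,29,174,203,87,58],[],16,11,false⟩)) (RTr.leaf ⟨false,116,[29,174,145,203,145,203,174,29,174,58,145,58,116,174,58,145],[],22,11,true⟩))))) (RTr.node (RTr.node (RTr.node (RTr.node (RTr.node (RTr.leaf ⟨false,174,[174],[],3,0,false⟩) (RTr.leaf ⟨false,29,[174,145,87,87,145,174,58,116,116,58,145,58,87,145],[],19,6,true⟩)) (RTr.leaf ⟨false,145,[116,58,145,58,58,58,145,116,58,145,58,58,58],[],21,3,true⟩)) (RTr.node (RTr.node (RTr.leaf ⟨false,58,[58,145,116,58,145,58,58,58,145,116,58,145,58],[],21,5,true⟩) (RTr.leaf ⟨false,145,[58,87,29,174,203,87,58,87,145,203,58,145,87,174,58],[],16,3,false⟩)) (RTr.leaf ⟨false,174,[58,145,116,29,145,29,87,87,29,174,145,116,116,145],[],19,9,false⟩))) (RTr.node (RTr.node (RTr.node (RTr.leaf ⟨false,87,[87,87,87,87],[],8,3,false⟩) (RTr.leaf ⟨false,145,[29,174,58,174,203,145,203,145,174,58,87,145,29,174,87,29],[],22,16,false⟩))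 (RTr.leaf ⟨false,145,[87,174,145,29,145,58,145,87,29,145,29,174,87],[],18,9,false⟩)) (RTr.node (RTr.node (RTr.leaf ⟨false,116,[174,87,174,116,174,87,174],[],11,6,false⟩) (RTr.leaf ⟨false,174,[58,87,145,29,174,87,29,145,29,174,58,174,203,145,203,145],[],22,7,false⟩)) (RTr.leaf ⟨false,87,[174,116,145,174,116,116,145,174,145,174,116,116,145],[],13,10,true⟩)))) (RTr.node (RTr.node (RTr.node (RTr.node (RTr.leaf ⟨false,58,[58,58,58,58,116,29,87],[],10,7,true⟩) (RTr.leaf ⟨false,145,[174,145,174,145,174,145,174,145,174],[],14,0,false⟩)) (RTr.leaf ⟨false,116,[116,145,174,58,145,116,29,145,29,87,87,29,174,145],[],19,12,false⟩)) (RTr.node (RTr.node (RTr.leaf ⟨false,145,[174,145,87,87,174,145,87,174,116,145,87,87,174],[],13,12,false⟩) (RTr.leaf ⟨false,145,[29,87,145,29,116,174,145,116,203,174,58,203,145,58,58,145,174,203,29,174,58,116],[],23,8,true⟩)) (RTr.leaf ⟨false,29,[145,58,145,87,29,145,29,174,87,145,87,174,145],[],18,5,false⟩))) (RTr.node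 (RTr.node (RTr.node (RTr.leaf ⟨false,87,[174,145,87,174,116,145,87,87,174,145,174,145,87],[],13,8,false⟩) (RTr.leaf ⟨false,145,[174,145,174,145,174,145,174,145,174],[],14,2,false⟩)) (RTr.leaf ⟨false,174,[145,87,87,145,174,58,116,116,58,145,58,87,145,29],[],19,5,true⟩)) (RTr.node (RTr.node (RTr.leaf ⟨false,87,[145,87,174,145,29,145,58,145,87,29,145,29,174],[],18,10,false⟩) (RTr.leaf ⟨false,58,[203,174,145,29,29,145,203,29,174,203,87,145,174,87,58,145,116,58,145,87,29,174],[],23,10,false⟩)) (RTr.leaf ⟨false,29,[174,145,116,116,145,174,58,145,116,29,145,29,87,87],[],19,0,false⟩)))))) (RTr.node (RTr.node (RTr.node (RTr.node (RTr.node (RTr.node (RTr.leaf ⟨false,29,[203,29,203],[],5,2,false⟩) (RTr.leaf ⟨false,29,[174,203,87,58,87,145,203,58,145,87,174,58,145,58,87],[],16,0,false⟩)) (RTr.node (RTr.leaf ⟨false,58,[145,58,87,145,29,174,145,87,87,145,174,58,116,116],[],19,11,true⟩) (RTr.leaf ⟨false,145,[58,145,203,145,29,145,116,116,145,203,58,145,87,87],[],20,10,true⟩)))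 (RTr.node (RTr.node (RTr.leaf ⟨false,174,[58,145,58,87,29,174,203,87,58,87,145,203,58,145,87],[],16,5,false⟩) (RTr.leaf ⟨false,145,[116,58,145,87,29,174,58,203,174,145,29,29,145,203,29,174,203,87,145,174,87,58],[],23,17,false⟩)) (RTr.leaf ⟨false,174,[87,58,145,116,58,145,87,29,174,58,203,174,145,29,29,145,203,29,174,203,87,145],[],23,20,false⟩))) (RTr.node (RTr.node (RTr.node (RTr.leaf ⟨false,87,[29,29,29,29,29,116,58],[],10,5,false⟩) (RTr.leaf ⟨false,87,[87,174,145,87,174,116,145,87,87,174,145,174,145],[],13,9,false⟩)) (RTr.leaf ⟨false,116,[116,116,116,116],[],8,1,true⟩)) (RTr.node (RTr.node (RTr.leaf ⟨false,29,[145,29,174,87,145,87,174,145,29,145,58,145,87],[],18,0,false⟩) (RTr.leaf ⟨false,145,[116,116,145,203,58,145,87,87,145,58,145,203,145,29],[],20,4,true⟩)) (RTr.leaf ⟨false,174,[58,174,203,145,203,145,174,58,87,145,29,174,87,29,145,29],[],22,14,false⟩)))) (RTr.node (RTr.node (RTr.node (RTr.node (RTr.leaf ⟨false,116,[116,116,116,116],[],8,3,true⟩)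 (RTr.leaf ⟨false,174,[203,145,203,174,145,116,174,203,145,203,174,87,145],[],15,12,false⟩)) (RTr.leaf ⟨false,29,[87,145,29,29,29,145,29,87,145,29,29,29,145],[],21,12,false⟩)) (RTr.node (RTr.node (RTr.leaf ⟨false,203,[145,29,145,116,116,145,29,203,145,87,87,145,58,145],[],20,7,false⟩) (RTr.leaf ⟨false,58,[145,87,29,145,29,174,87,145,87,174,145,29,145],[],18,3,false⟩)) (RTr.leaf ⟨false,203,[174,145,29,29,145,203,29,174,203,87,145,174,87,58,145,116,58,145,87,29,174,58],[],23,9,false⟩))) (RTr.node (RTr.node (RTr.node (RTr.leaf ⟨false,116,[145,87,174,116,145,174,116,116,145,174,145,174,116],[],13,12,true⟩) (RTr.leaf ⟨false,58,[145,58,87,29,174,203,87,58,87,145,203,58,145,87,174],[],16,4,false⟩)) (RTr.leaf ⟨false,174,[29,87,87,203,145,58,116,29,203,174,87,145,87],[],12,5,true⟩)) (RTr.node (RTr.node (RTr.leaf ⟨false,29,[29,29,29,116,58,87,29],[],10,3,false⟩) (RTr.leaf ⟨false,203,[87,145,174,87,58,145,116,58,145,87,29,174,58,203,174,145,29,29,145,203,29,174],[],23,0,false⟩))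 (RTr.leaf ⟨false,29,[145,203,29,174,203,87,145,174,87,58,145,116,58,145,87,29,174,58,203,174,145,29],[],23,5,false⟩))))) (RTr.node (RTr.node (RTr.node (RTr.node (RTr.node (RTr.leaf ⟨false,87,[145,87,145,87,145],[],9,4,false⟩) (RTr.leaf ⟨false,145,[203,29,174,203,87,145,174,87,58,145,116,58,145,87,29,174,58,203,174,145,29,29],[],23,4,false⟩)) (RTr.leaf ⟨false,87,[145,58,145,203,145,29,145,116,116,145,203,58,145,87],[],20,11,true⟩)) (RTr.node (RTr.node (RTr.leaf ⟨false,116,[145,116,145,116,145],[],9,1,true⟩) (RTr.leaf ⟨false,203,[145,203,174,29,174,58,145,58,116,174,58,145,116,29,174,145],[],22,7,true⟩)) (RTr.leaf ⟨false,87,[29,174,145,116,116,145,174,58,145,116,29,145,29,87],[],19,1,false⟩))) (RTr.node (RTr.node (RTr.node (RTr.leaf ⟨false,145,[58,87,145,29,174,145,87,87,145,174,58,116,116,58],[],19,10,true⟩) (RTr.leaf ⟨false,203,[145,203,145,174,58,87,145,29,174,87,29,145,29,174,58,174],[],22,11,false⟩)) (RTr.leaf ⟨false,87,[87,203,145,58,116,29,203,174,87,145,87,174,29],[],12,3,true⟩))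 (RTr.node (RTr.node (RTr.leaf ⟨false,58,[116,29,203,174,87,145,87,174,29,87,87,203,145],[],12,13,true⟩) (RTr.leaf ⟨false,29,[145,29,87,145,29,29,29,145,29,87,145,29,29],[],21,0,false⟩)) (RTr.leaf ⟨false,174,[87,145,174,203,145,203,174,145,116,174,203,145,203],[],15,1,false⟩)))) (RTr.node (RTr.node (RTr.node (RTr.node (RTr.leaf ⟨false,145,[87,174,116,145,174,116,116,145,174,145,174,116,116],[],13,11,true⟩) (RTr.leaf ⟨false,174,[145,174,145,174,145,174,145,174,145],[],14,5,false⟩)) (RTr.leaf ⟨false,145,[29,145,116,116,145,29,203,145,87,87,145,58,145,203],[],20,6,false⟩)) (RTr.node (RTr.node (RTr.leaf ⟨false,116,[174,203,58,87,29,145,203,116,116,58,174,116,145],[],12,5,false⟩) (RTr.leaf ⟨false,174,[145,174,116,116,145,87,174,116,145,174,116,116,145],[],13,2,true⟩)) (RTr.leaf ⟨false,87,[145,58,145,203,145,29,145,116,116,145,29,203,145,87],[],20,11,false⟩))) (RTr.node (RTr.node (RTr.node (RTr.leaf ⟨false,58,[203,58,203],[],5,1,true⟩) (RTr.leaf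 ⟨false,58,[116,29,145,29,174,116,145,29,203,145,116,29,116,203,174],[],16,15,true⟩)) (RTr.leaf ⟨false,174,[145,116,116,145,174,58,145,116,29,145,29,87,87,29],[],19,14,false⟩)) (RTr.node (RTr.node (RTr.leaf ⟨false,145,[58,145,174,116,145,116,174,58,145,58,116,145,29],[],18,9,true⟩) (RTr.leaf ⟨false,145,[203,145,203,174,29,174,58,145,58,116,174,58,145,116,29,174],[],22,8,true⟩)) (RTr.leaf ⟨false,58,[116,145,29,145,58,145,174,116,145,116,174,58,145],[],18,13,true⟩)))))))))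

noncomputable def D : TCD where
  N := nat_lit 47104
  E := (Tr.node (Tr.node (Tr.node (Tr.node e0 e8) (Tr.node e4 e12)) (Tr.node (Tr.node e2 e10) (Tr.node e6 e14))) (Tr.node (Tr.node (Tr.node e1 e9) (Tr.node e5 e13)) (Tr.node (Tr.node e3 e11) (Tr.node e7 e15))))
  lb := nat_lit 4
  lm := nat_lit 15
  rw := nat_lit 232
  em := nat_lit 536870911
  vm := nat_lit 131071
  fl := nat_lit 65536
  wv := nat_lit 17
  inf := nat_lit 536739840
  J := (Tr.node (Tr.node (Tr.node (Tr.node j0 j8) (Tr.node j4 j12)) (Tr.node (Tr.node j2 j10) (Tr.node j6 j14))) (Tr.node (Tr.node (Tr.node j1 j9) (Tr.node j5 j13)) (Tr.node (Tr.node j3 j11) (Tr.node j7 j15))))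
  jw := nat_lit 24
  jm := nat_lit 16777215
  jr := nat_lit 216
  pk := nat_lit 232
  nr := nat_lit 393
  R := R
  cols := [(nat_lit 29,nat_lit 48),(nat_lit 58,nat_lit 72),(nat_lit 87,nat_lit 96),(nat_lit 116,nat_lit 120),(nat_lit 145,nat_lit 144),(nat_lit 174,nat_lit 168),(nat_lit 203,nat_lit 192)]
  j0 := nat_lit 24
  big := nat_lit 1000000000

def cl : List (Nat × Nat) := [(29,0),(58,1),(87,2),(116,3),(145,4),(174,6),(203,8)]
def invs : List Nat := [2,3,4]
def rels : List (List Nat) := [[0,1],[2,3],[4,5],[6,7],[8,9],[0,8,0,8],[2,8,3,8],[0,0,3,0,2],[2,2,2,2,2],[2,4,2,4,2,4],[0,0,0,0,0,2,1,3],[2,6,3,6,2,6,3,6],[0,2,1,8,6,3,4,3,6,1,3,3,8,4],[2,2,4,3,6,2,4,6,2,2,4,6,4,6],[4,6,4,6,4,6,4,6,4,6],[2,6,8,4,8,6,3,4,6,8,4,8,6,4],[0,2,1,4,1,6,2,4,1,8,4,2,1,2,8,6],[4,8,4,8,4,8,4,8],[0,2,4,1,4,0,4,6,2,4,2,6,0,4],[0,2,2,0,4,0,3,4,1,6,4,3,3,4,6],[0,4,3,3,4,0,4,8,4,1,4,2,2,4,8],[0,0,0,4,2,0,4,0,0,0,4,2,0,4],[0,2,6,0,4,2,1,6,4,8,4,8,6,1,6,0,4],[8,6,0,8,4,0,0,4,6,8,1,6,0,2,4,1,3,4,1,2,6,4,2]]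
def subs : List (List Nat) := [[0],[2],[4],[6]]
def W0 : List (List Nat) := [[0],[2],[4],[6],[8]]


end CfsgH7.Co2mT
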