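import Cfsg.Agent.H7.Mult3
import Cfsg.Agent.H7.Mu.B5

set_option autoImplicit false
set_option maxRecDepth 100000

universe u

open scoped Pointwise

namespace CfsgH7.E9T

noncomputable def e0 : Tr := (Tr.leaf (nat_lit 0x47228644e022688543e0452144a8e0216643a7e043206866e020646765e008074120e006052062e004030201e0))

noncomputable def j0 : Tr := (Tr.leaf (nat_lit 0x3051028070081438901a03051008048081438201003050208020081408200600000608010000008200200000000000))

noncomputable def R : RTr := (RTr.node (RTr.node (RTr.node (RTr.node (RTr.leaf ⟨false,16,[8],[],0,1,false⟩) (RTr.leaf ⟨false,8,[32,16,24],[],4,0,false⟩)) (RTr.leaf ⟨false,24,[32],[],1,0,false⟩)) (RTr.node (RTr.leaf ⟨false,16,[16,16],[],2,1,true⟩) (RTr.leaf ⟨false,16,[32,8,24],[],4,3,true⟩))) (RTr.node (RTr.node (RTr.node (RTr.leaf ⟨false,8,[16],[],0,0,false⟩) (RTr.leaf ⟨false,8,[24,16,32],[],4,1,true⟩)) (RTr.leaf ⟨false,32,[32,32],[],3,1,true⟩)) (RTr.node (RTr.leaf ⟨false,32,[24],[],1,1,false⟩)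 (RTr.leaf ⟨false,16,[24,8,32],[],4,2,false⟩))))

noncomputable def D : TCD where
  N := nat_lit 9
  E := e0
  lb := nat_lit 4
  lm := nat_lit 15
  rw := nat_lit 40
  em := nat_lit 255
  vm := nat_lit 31
  fl := nat_lit 16
  wv := nat_lit 5
  inf := nat_lit 224
  J := j0
  jw := nat_lit 7
  jm := nat_lit 127
  jr := nat_lit 42
  pk := nat_lit 40
  nr := nat_lit 10
  R := R
  cols := [(nat_lit 8,nat_lit 14),(nat_lit 16,nat_lit 21),(nat_lit 24,nat_lit 28),(nat_lit 32,nat_lit 35)]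
  j0 := nat_lit 7
  big := nat_lit 1000000000

def cl : List (Nat × Nat) := [(8,0),(16,1),(24,2),(32,3)]
def invs : List Nat := []
def rels : List (List Nat) := [[0,1],[2,3],[0,0,0],[2,2,2],[0,2,1,3]]
def subs : List (List Nat) := []
def W0 : List (List Nat) := [[0],[2]]

theorem c0 : Nat.beq (nsum2 D.val 0 1 64) 9 = true := by decide +kernel

theorem pre : tcPre D cl invs rels subs W0 64 9 = true := by decide +kernel

theorem u0 : Upto D.val 0 0 := Upto.zero _
theorem u1 : Upto D.val 64 9 := u0.step c0 (by decide) (by decide)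

theorem relIndex {G : Type*} [Group G] (g : Nat → G) (K : Subgroup G) (hinv : ∀ k ∈ invs, g k * g k = 1)
    (hrel : ∀ r ∈ rels, wprod g r = 1) (hsub : ∀ h ∈ subs, wprod g h ∈ K) :
    K.relIndex (genW g W0) ≠ 0 ∧ K.relIndex (genW g W0) ≤ 9 :=
  tc_relIndex g K D cl invs rels subs W0 _ _ hinv hrel hsub pre u1

end CfsgH7.E9T

namespace CfsgH7.E9

def R : List (List Nat) := [[0,0,0],[2,2,2],[0,2,1,3]]
def S : List (List Nat) := []
theorem p2 : P2.{u} 2 R S 9 := fun _ _ g K hs hS =>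
  have hf := hs.follows (invs := E9T.invs) (rels := E9T.rels) (by decide +kernel)
  E9T.relIndex g K hf.1 hf.2 hS
noncomputable def Rf : List (List Nat) := R ++ ([]).map (substW S)
theorem pr : Pr.{u} 2 Rf 9 := Pr.step (S := S) p2 Pr.nil

end CfsgH7.E9

namespace CfsgH7.E72T

noncomputable def e0 : Tr := (Tr.leaf (nat_lit 0xc662a1449e031a904666f0115d08711781d066112a3c0c72182043e03221c4207f0104400602f8040620200fc0020090041e0))

noncomputable def j0 : Tr := (Tr.leaf (nat_lit 0x8070c0600c6090b020a009008040206006c03040206006303070006003f03040200003605040000002403040000001b000002010000))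

noncomputable def R : RTr := (RTr.node (RTr.node (RTr.node (RTr.node (RTr.leaf ⟨true,9,[],[],0,0,false⟩) (RTr.leaf ⟨false,36,[18,36,18,27,9,9],[],3,6,false⟩)) (RTr.leaf ⟨false,36,[36,36],[],2,1,true⟩)) (RTr.node (RTr.node (RTr.leaf ⟨false,36,[27],[],1,1,false⟩) (RTr.leaf ⟨false,27,[9,27,18,18,36,9],[],3,2,true⟩)) (RTr.leaf ⟨false,27,[18,36,9,9,27,18],[],4,4,false⟩))) (RTr.node (RTr.node (RTr.node (RTr.leaf ⟨false,18,[9],[],0,1,false⟩) (RTr.leaf ⟨false,9,[36,18,36,18,27,9],[],3,0,false⟩)) (RTr.leaf ⟨false,9,[18],[],0,0,false⟩)) (RTr.node (RTr.node (RTr.leaf ⟨false,27,[36],[],1,0,false⟩) (RTr.leaf ⟨false,18,[27,9,36,9,36,18],[],4,5,true⟩)) (RTr.leaf ⟨false,36,[18,27,9,9,36,18],[],3,4,false⟩))))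

noncomputable def D : TCD where
  N := nat_lit 9
  E := e0
  lb := nat_lit 4
  lm := nat_lit 15
  rw := nat_lit 45
  em := nat_lit 511
  vm := nat_lit 31
  fl := nat_lit 16
  wv := nat_lit 5
  inf := nat_lit 480
  J := j0
  jw := nat_lit 8
  jm := nat_lit 255
  jr := nat_lit 48
  pk := nat_lit 45
  nr := nat_lit 12
  R := R
  cols := [(nat_lit 9,nat_lit 16),(nat_lit 18,nat_lit 24),(nat_lit 27,nat_lit 32),(nat_lit 36,nat_lit 40)]
  j0 := nat_lit 8
  big := nat_lit 1000000000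

def cl : List (Nat × Nat) := [(9,0),(18,1),(27,2),(36,3)]
def invs : List Nat := []
def rels : List (List Nat) := [[0,1],[2,3],[2,2,2],[0,0,2,1,3,1,3],[0,0,3,1,2,1,2],[0,0,0,0,0,0,0,0]]
def subs : List (List Nat) := [[0]]
def W0 : List (List Nat) := [[0],[2]]

theorem c0 : Nat.beq (nsum2 D.val 0 1 64) 9 = true := by decide +kernel

theorem pre : tcPre D cl invs rels subs W0 64 9 = true := by decide +kernel

theorem u0 : Upto D.val 0 0 := Upto.zero _
theorem u1 : Upto D.val 64 9 := u0.step c0 (by decide) (by decide)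

theorem relIndex {G : Type*} [Group G] (g : Nat → G) (K : Subgroup G) (hinv : ∀ k ∈ invs, g k * g k = 1)
    (hrel : ∀ r ∈ rels, wprod g r = 1) (hsub : ∀ h ∈ subs, wprod g h ∈ K) :
    K.relIndex (genW g W0) ≠ 0 ∧ K.relIndex (genW g W0) ≤ 9 :=
  tc_relIndex g K D cl invs rels subs W0 _ _ hinv hrel hsub pre u1

end CfsgH7.E72T

namespace CfsgH7.E72P3

noncomputable def e0 : Tr := (Tr.leaf (nat_lit 0x63a4e066e045e087e0e0e0e022e0e0e043e021e0e0872107e041200605e020620403e002014020e0))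

noncomputable def j0 : Tr := (Tr.leaf (nat_lit 0xc0e000d00800b0002000060000002000058000900080038000502000030060500000020040500000018000002010000))

noncomputable def t0 : Tr := (Tr.leaf (nat_lit 0x200000200000001020000000000000200010002000000000002000002000000000000010002000100000000000000000000000000000000000000000000000000000000000000000000000000000000020002000000000000000000000000000000000000000000000100000100000000000000000000000000000000000000000100000000000000000000000000000000000000000000000000000000000200000000000000000000000000000000000000000000000000010000000002000000000000000000))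

noncomputable def RT : RTt := (RTt.node (RTt.node (RTt.node (RTt.node (RTt.leaf ⟨true,8,[],[],(nat_lit 0x100000000),0,0,false⟩) (RTt.leaf ⟨false,24,[16,32,8,8,24,16],[],(nat_lit 0x10000),2,4,false⟩)) (RTt.node (RTt.leaf ⟨false,24,[32],[],(nat_lit 0x0),4,2,false⟩) (RTt.leaf ⟨false,8,[32,16,32,16,24,8],[],(nat_lit 0x100),1,0,false⟩))) (RTt.node (RTt.node (RTt.leaf ⟨false,0,[8,8,8,8,8,8,8,8],[],(nat_lit 0x1000000),3,0,false⟩) (RTt.leaf ⟨false,32,[16,24,8,8,32,16],[],(nat_lit 0x100),1,4,false⟩)) (RTt.leaf ⟨false,0,[24,24,24],[],(nat_lit 0x1),0,0,false⟩))) (RTt.node (RTt.node (RTt.node (RTt.leaf ⟨false,16,[8],[],(nat_lit 0x0),4,1,false⟩) (RTt.leaf ⟨false,0,[8,32,16,16,24,8,32],[],(nat_lit 0x20000),2,2,true⟩)) (RTt.node (RTt.leaf ⟨false,32,[32,32],[],(nat_lit 0x2),0,1,true⟩) (RTt.leaf ⟨false,24,[8,24,16,16,32,8],[],(nat_lit 0x200),1,2,true⟩))) (RTt.node (RTt.node (RTt.leaf ⟨false,32,[24],[],(nat_lit 0x0),4,3,false⟩) (RTt.leaf ⟨false,32,[16,32,16,24,8,8],[],(nat_lit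 0x100),1,6,false⟩)) (RTt.leaf ⟨false,8,[16],[],(nat_lit 0x0),4,0,false⟩))))

noncomputable def D : TCD where
  N := nat_lit 8
  E := e0
  lb := nat_lit 3
  lm := nat_lit 7
  rw := nat_lit 40
  em := nat_lit 255
  vm := nat_lit 31
  fl := nat_lit 16
  wv := nat_lit 5
  inf := nat_lit 224
  J := j0
  jw := nat_lit 8
  jm := nat_lit 255
  jr := nat_lit 48
  pk := nat_lit 40
  nr := nat_lit 14
  R := RTr.leaf ⟨false,0,[],[],0,0,false⟩
  cols := [(nat_lit 8,nat_lit 16),(nat_lit 16,nat_lit 24),(nat_lit 24,nat_lit 32),(nat_lit 32,nat_lit 40)]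
  j0 := nat_lit 8
  big := nat_lit 0

noncomputable def X : TTD where
  D := D
  p := ⟨nat_lit 8, nat_lit 5, nat_lit 3, nat_lit 0x303030303, nat_lit 3, nat_lit 0x3f3f3f3f3f, nat_lit 63, nat_lit 0x3f3f3f3f3f, nat_lit 63, nat_lit 0x3c3c3c3c3c, nat_lit 60⟩
  T := t0
  tq := nat_lit 5
  fu := nat_lit 1
  lmax := nat_lit 8
  R := RT

def cl : List (Nat × Nat) := [(8,0),(16,1),(24,2),(32,3)]
def R : List (List Nat) := [[2,2,2],[0,0,2,1,3,1,3],[0,0,3,1,2,1,2],[0,0,0,0,0,0,0,0]]
def S : List (List Nat) := [[0]]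
def cs : List (List Nat) := [[6],[2]]
theorem c0 : Nat.beq (nsum2 X.val 0 1 16) 0 = true := by decide +kernel

noncomputable def qs : List ((Nat × Nat) × Nat × Nat) := [((0,64),2,(nat_lit 0x101000000)),((3,128),9,(nat_lit 0x10100)),((7,192),6,(nat_lit 0x1))]
noncomputable def cn : List (List Nat × Nat) := [([6],(nat_lit 0x2000000)),([2],(nat_lit 0x200))]
def rs : List (List (Nat × Nat) × Nat) := [([(2,1)],1),([(1,1)],1),([(4,1),(1,1)],1),([(0,1)],1),([(3,1),(0,1)],1)]
theorem u0 : Upto X.val 0 0 := Upto.zero _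
theorem u1 : Upto X.val 16 0 := u0.step c0 (by decide) (by decide)

theorem p1 : P1 R S cs 3 1 :=
  tt_P1 X cl R S 16 qs cn rs (by decide +kernel) u1 (by decide +kernel) (by decide +kernel)

end CfsgH7.E72P3

namespace CfsgH7.E72

def R : List (List Nat) := [[2,2,2],[0,0,2,1,3,1,3],[0,0,3,1,2,1,2],[0,0,0,0,0,0,0,0]]
def S : List (List Nat) := [[0]]
theorem p2 : P2.{u} 2 R S 9 := fun _ _ g K hs hS =>
  have hf := hs.follows (invs := E72T.invs) (rels := E72T.rels) (by decide +kernel)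
  E72T.relIndex g K hf.1 hf.2 hS
noncomputable def Rf : List (List Nat) := R ++ (C8.Rf).map (substW S)
theorem pr : Pr.{u} 2 Rf 72 := Pr.step (S := S) p2 C8.pr
theorem nr3 : nrmOk 2 R E72P3.cs 3 = true := by decide +kernel
theorem lv3 : Lv.{u} 2 Rf 72 3 1 := Lv.step (S := S) (a := 1) E72P3.p1 p2 nr3 C8.pr (Lv.base C8.pr (by norm_num))

end CfsgH7.E72

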